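import Cfsg.Agent.Lib.Blocks.FourGroupBlock

/-!
# The regular inner products of the principal block for a four-group with one class of involutions
-/

set_option autoImplicit false
set_option maxHeartbeats 800000

namespace CfsgLib.Blocks.FourGroup

open Cfsg CfsgLib.BrauerSuzuki CfsgLib.Blocks.TIAbelian
open scoped Classical ComplexConjugate

variable {G : Type*} [Group G] [Fintype G] [Fact (Nat.Prime 2)]

/-- The inner products over the regular elements. -/
theorem four_group_gram {M : Ideal AlgInt} (hM : IsPModular 2 M) (P : Sylow 2 G)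
    (hP : Nat.card P = 4) (hexp : ∀ x : P, x * x = 1)
    (hone : ∀ s t : G, orderOf s = 2 → orderOf t = 2 → IsConj s t) :
    ∃ a : IrrCharacter G → ℤ, a (trivChar G) = 1 ∧ (∀ χ ∈ principalBlock M G, a χ * a χ = 1) ∧
      ∀ χ ∈ principalBlock M G, ∀ ψ ∈ principalBlock M G,
        4 * ∑ g : G with IsPRegular 2 g, (χ : G → ℂ) g * conj ((ψ : G → ℂ) g)
          = (Nat.card G : ℂ) * (4 * (if χ = ψ then 1 else 0) - (a χ : ℂ) * (a ψ : ℂ)) := by
  have hF := frobSylow_four P hP hexp
  have hcardP : Nat.card ↥(P : Subgroup G) = 4 := hP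
  have hord : ∀ y : ↥(P : Subgroup G), y ≠ 1 → orderOf (y : G) = 2 := fun y hy => by
    rw [Subgroup.orderOf_coe]
    exact orderOf_eq_prime (by rw [pow_two]; exact hexp y) hy
  obtain ⟨x, hx0⟩ : ∃ x : ↥(P : Subgroup G), x ≠ 1 := by
    have : Nontrivial ↥(P : Subgroup G) := Finite.one_lt_card_iff_nontrivial.1 (by rw [hcardP]; omega)
    exact exists_ne 1
  have hx1 : (x : G) ≠ 1 := fun e => hx0 (Subtype.ext e)
  have hchar : ∀ χ : IrrCharacter G, ∀ y : ↥(P : Subgroup G), y ≠ 1 → (χ : G → ℂ) y = (χ : G → ℂ) (x : G) :=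
    fun χ y hy => by
      obtain ⟨u, hu⟩ := isConj_iff.1 (hone _ _ (hord x hx0) (hord y hy))
      rw [← hu, irr_conj_apply]
  have hm : autCard P = 3 := by
    rw [← hF.card_conj_inter x.2 hx1, show (Finset.univ.filter fun y : ↥(P : Subgroup G) => IsConj (x : G) (y : G))
      = Finset.univ.erase 1 from ?_, Finset.card_erase_of_mem (Finset.mem_univ _), Finset.card_univ,
      ← Nat.card_eq_fintype_card, hcardP]
    ext y
    simp only [Finset.mem_filter, Finset.mem_erase, Finset.mem_univ, true_and, and_true]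
    refine ⟨fun h e => ?_, fun h => hone _ _ (hord x hx0) (hord y h)⟩
    rw [e, OneMemClass.coe_one, isConj_one_left] at h
    exact hx1 h
  have hint : ∀ χ : IrrCharacter G, ∃ a : ℤ, (χ : G → ℂ) (x : G) = (a : ℂ) := by
    intro χ
    obtain ⟨n, hn⟩ := Char.IsCharacter.classInner_nat
      (Char.IsCharacter.restrict (Char.isCharacter_irr χ) (P : Subgroup G)) (Char.isCharacter_one (G := ↥(P : Subgroup G)))
    rw [Char.classInner_fun_one_right, ← Finset.add_sum_erase _ _ (Finset.mem_univ (1 : ↥(P : Subgroup G))),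
      Finset.sum_congr rfl (fun y hy => hchar χ y (Finset.mem_erase.1 hy).1), Finset.sum_const,
      Finset.card_erase_of_mem (Finset.mem_univ _), Finset.card_univ, ← Nat.card_eq_fintype_card, hcardP,
      OneMemClass.coe_one, irr_one_eq, nsmul_eq_mul] at hn
    refine Char.exists_int_of_isIntegral_rat (irr_isIntegral χ _)
      (q := (4 * (n : ℚ) - charDegree (χ : G → ℂ)) / 3) ?_
    push_cast
    norm_num at hn ⊢
    linear_combination (4 / 3 : ℂ) * hn
  choose a ha using hint
  have hvalB : ∀ χ ∈ principalBlock M G, ∀ g : G, 2 ∣ orderOf g → (χ : G → ℂ) g = (a χ : ℂ) := by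
    intro χ hχ g hg
    obtain ⟨u, hu⟩ := exists_conj_pEl P g
    have hy : (⟨_, hu⟩ : ↥(P : Subgroup G)) ≠ 1 := fun e => by
      have hy1 : pEl 2 g = 1 := conj_eq_one_iff.mp (congrArg Subtype.val e)
      obtain ⟨s, hs, -, -, hsr⟩ := pEl_spec (p := 2) g
      rw [hy1, one_mul] at hs
      exact hsr (hs ▸ hg)
    obtain ⟨s, hs, hys, hk, hsr⟩ := isPPart_conj (pEl_spec (p := 2) g) u
    rw [← irr_conj_apply χ g u, ← hs, apply_section hF hM hχ hk (fun e => hy (Subtype.ext e))
      ⟨s, Subgroup.mem_centralizer_singleton_iff.2 hys.eq.symm⟩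
      (by show ¬ 2 ∣ orderOf _; rwa [Subgroup.orderOf_mk])]
    exact (hchar χ ⟨_, hu⟩ hy).trans (ha χ)
  have htriv : trivChar G ∈ principalBlock M G := trivChar_mem_principalBlock hM
  have hatriv : a (trivChar G) = 1 := by
    have := ha (trivChar G)
    rw [show ((trivChar G : IrrCharacter G) : G → ℂ) (x : G) = 1 from rfl] at this
    exact_mod_cast this.symm
  -- the singular elements are a quarter of the group
  set f₀ : G → ℂ := fun g => if g = 1 then 0 else 1 with hf₀
  have hinv₀ : FInv P f₀ := fun g y _ _ => by simp [f₀]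
  have hf₀1 : f₀ 1 = 0 := by simp [f₀]
  have hf₀P : ∀ y : ↥(P : Subgroup G), y ≠ 1 → f₀ (y : G) = 1 := fun y hy => by simp [f₀, hy]
  have hmne : ((autCard P * Nat.card ↥(P : Subgroup G) : ℕ) : ℂ) = 12 := by rw [hm, hcardP]; norm_num
  have hcnt : ∑ g : G, (if IsPRegular 2 g then (0 : ℂ) else 1) = (Nat.card G : ℂ) / 4 := by
    have e := classInner_sFun hF hinv₀ hf₀1 (Ψ := fun _ => (1 : ℂ)) (fun _ _ => rfl) (fun _ _ _ _ _ => rfl)
    rw [hmne, Char.classInner_fun_one_right] at e
    simp only [map_one, mul_one] at e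
    rw [← Finset.add_sum_erase _ _ (Finset.mem_univ (1 : ↥(P : Subgroup G))), OneMemClass.coe_one, hf₀1, zero_add,
      Finset.sum_congr rfl (g := fun _ => (1 : ℂ)) (fun y hy => hf₀P y (Finset.mem_erase.1 hy).1),
      Finset.sum_const, Finset.card_erase_of_mem (Finset.mem_univ _), Finset.card_univ, ← Nat.card_eq_fintype_card,
      hcardP, nsmul_eq_mul, inv_mul_eq_iff_eq_mul₀ Char.card_ne_zero] at e
    rw [Finset.sum_congr rfl (g := fun g => sFun P f₀ g) fun g _ => ?_, e]
    · norm_num; ring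
    · by_cases hg : IsPRegular 2 g
      · rw [if_pos hg, sFun_of_odd hinv₀ hg, hf₀1]
      · rw [if_neg hg]
        obtain ⟨u, hu⟩ := exists_conj_pEl P g
        rw [sFun_eq hinv₀ hu]
        refine (if_neg fun e' => ?_).symm
        have hy1 : pEl 2 g = 1 := conj_eq_one_iff.mp e'
        obtain ⟨s, hs, -, -, hsr⟩ := pEl_spec (p := 2) g
        rw [hy1, one_mul] at hs
        exact hg (hs ▸ hsr)
  have hpair : ∀ χ ∈ principalBlock M G, ∀ ψ ∈ principalBlock M G,
      4 * ∑ g : G with IsPRegular 2 g, (χ : G → ℂ) g * conj ((ψ : G → ℂ) g)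
        = (Nat.card G : ℂ) * (4 * (if χ = ψ then 1 else 0) - (a χ : ℂ) * (a ψ : ℂ)) := by
    intro χ hχ ψ hψ
    have hall : ∑ g : G, (χ : G → ℂ) g * conj ((ψ : G → ℂ) g)
        = (Nat.card G : ℂ) * (if χ = ψ then 1 else 0) := by
      rw [← Char.classInner_irrCharacter χ ψ, Cfsg.classInner,
        mul_inv_cancel_left₀ Char.card_ne_zero]
    rw [Finset.sum_filter, Finset.sum_congr rfl (g := fun g => (χ : G → ℂ) g * conj ((ψ : G → ℂ) g)
      - (a χ : ℂ) * (a ψ : ℂ) * (if IsPRegular 2 g then (0 : ℂ) else 1)) fun g _ => ?_,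
      Finset.sum_sub_distrib, hall, ← Finset.mul_sum, hcnt]
    · ring
    · by_cases hg : IsPRegular 2 g
      · rw [if_pos hg, if_pos hg, mul_zero, sub_zero]
      · have hg' : 2 ∣ orderOf g := not_not.1 hg
        rw [if_neg hg, if_neg hg, hvalB χ hχ g hg', hvalB ψ hψ g hg', map_intCast, mul_one, sub_self]
  refine ⟨a, hatriv, fun χ hχ => ?_, hpair⟩
  -- the values at an involution are signs
  obtain ⟨r, hr⟩ : ∃ r : ℝ, ∑ g : G with IsPRegular 2 g, (χ : G → ℂ) g * conj ((χ : G → ℂ) g)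
      = (r : ℂ) ∧ 0 < r := by
    refine ⟨∑ g : G with IsPRegular 2 g, Complex.normSq ((χ : G → ℂ) g), ?_, ?_⟩
    · push_cast
      exact Finset.sum_congr rfl fun g _ => Complex.mul_conj _
    · refine Finset.sum_pos' (fun g _ => Complex.normSq_nonneg _) ⟨1, Finset.mem_filter.2
        ⟨Finset.mem_univ _, by rw [IsPRegular, orderOf_one]; norm_num⟩, ?_⟩
      exact Complex.normSq_pos.2 (irr_one_ne_zero χ)
  have h := hpair χ hχ χ hχ
  rw [hr.1, if_pos rfl, mul_one] at h
  have h' : 4 * r = (Nat.card G : ℝ) * (4 - (a χ : ℝ) * (a χ : ℝ)) := by exact_mod_cast h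
  have h4 : a χ * a χ < 4 := by
    by_contra hle
    push Not at hle
    have : (4 : ℝ) ≤ (a χ : ℝ) * (a χ : ℝ) := by exact_mod_cast hle
    nlinarith [hr.2, (Nat.cast_nonneg (Nat.card G) : (0 : ℝ) ≤ _)]
  have ha0 : a χ ≠ 0 := fun h0 => by
    by_cases hne : χ = trivChar G
    · rw [hne, hatriv] at h0; exact one_ne_zero h0
    · obtain ⟨g, hg, hgne⟩ := SectionCentral.exists_singular_ne_zero hM isPBlock_principalBlock hχ htriv hne
      exact hgne (by rw [hvalB χ hχ g hg, h0, Int.cast_zero])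
  have h1 : -2 < a χ ∧ a χ < 2 := ⟨by nlinarith, by nlinarith⟩
  rcases h1 with ⟨h2, h3⟩
  interval_cases hv : a χ <;> first | omega | norm_num

end CfsgLib.Blocks.FourGroup
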