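import Mathlib.Algebra.BigOperators.Ring.Finset
import Mathlib.Algebra.Order.BigOperators.Ring.Finset
import Mathlib.Data.Fintype.BigOperators
import Mathlib.Tactic.LinearCombination
import Mathlib.Tactic.Linarith
import Mathlib.Tactic.IntervalCases
import Mathlib.Tactic.Ring

/-!
# Integral configurations of the singular sections of a 2-block with inertial quotient 3 × 3

The data are the integral matrices of two orthogonal products, the column of the mixed section and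
the column of degrees.
-/

set_option autoImplicit false

namespace CfsgLib.BlockSixteen

open Finset

/-- The integral data of a configuration. -/
structure Config (ι : Type*) [Fintype ι] where
  t : ι
  d : ι → ℤ
  f : ι → ℤ
  A : ι → ι → ℤ
  B : ι → ι → ℤ
  symA : ∀ r s, A r s = A s r
  symB : ∀ r s, B r s = B s r
  sqA : ∀ r s, ∑ u, A r u * A u s = 4 * A r s
  sqB : ∀ r s, ∑ u, B r u * B u s = 4 * B r s
  mulAB : ∀ r s, ∑ u, A r u * B u s = d r * d s
  Ad : ∀ r, ∑ u, A r u * d u = 4 * d r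
  Bd : ∀ r, ∑ u, B r u * d u = 4 * d r
  dd : ∑ u, d u * d u = 16
  traceA : ∑ r, A r r = 16
  traceB : ∑ r, B r r = 16
  d_t : d t = 1
  A_t : A t t = 1
  B_t : B t t = 1
  parA : ∀ r, 2 ∣ A r r - d r
  parB : ∀ r, 2 ∣ B r r - d r
  X_pos : ∀ r, 0 < 16 - 4 * A r r - 4 * B r r + d r * d r
  X_ne : ∀ r, r ≠ t → 4 * (A r t + B r t) - d r ≠ 0
  Af : ∀ r, ∑ u, A r u * f u = 0
  Bf : ∀ r, ∑ u, B r u * f u = 0
  df : ∑ u, d u * f u = 0
  f_t : f t = 1

namespace Config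

variable {ι : Type*} [Fintype ι] [DecidableEq ι] (c : Config ι)

/-- The sum of the two products. -/
def C (r s : ι) : ℤ := c.A r s + c.B r s

/-- Sixteen times the contribution of the regular elements. -/
def X (r s : ι) : ℤ := 16 * (if r = s then 1 else 0) - 4 * c.C r s + c.d r * c.d s

omit [DecidableEq ι] in
theorem C_symm (r s : ι) : c.C r s = c.C s r := by simp only [C, c.symA r s, c.symB r s]

omit [DecidableEq ι] in
theorem C_sq (r s : ι) : ∑ u, c.C r u * c.C u s = 4 * c.C r s + 2 * (c.d r * c.d s) := by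
  have h : ∑ u, c.C r u * c.C u s = (∑ u, c.A r u * c.A u s) + (∑ u, c.B r u * c.B u s)
      + (∑ u, c.A r u * c.B u s) + ∑ u, c.A s u * c.B u r := by
    simp only [← sum_add_distrib]
    refine sum_congr rfl fun u _ => ?_
    rw [C, C, c.symA s u, c.symB u r]
    ring
  rw [h, c.sqA, c.sqB, c.mulAB, c.mulAB, C]
  ring

omit [DecidableEq ι] in
theorem C_d (r : ι) : ∑ u, c.C r u * c.d u = 8 * c.d r := by
  simp only [C, add_mul, sum_add_distrib, c.Ad, c.Bd]
  ring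

theorem X_symm (r s : ι) : c.X r s = c.X s r := by
  simp only [X, c.C_symm r s, eq_comm (a := r) (b := s)]
  ring

theorem X_self (r : ι) : c.X r r = 16 - 4 * c.A r r - 4 * c.B r r + c.d r * c.d r := by
  simp only [X, C, if_true]
  ring

theorem X_of_ne {r s : ι} (h : r ≠ s) : c.X r s = c.d r * c.d s - 4 * c.C r s := by
  simp only [X, if_neg h]
  ring

theorem X_mul (r s : ι) : ∑ u, c.X r u * c.X u s = 16 * c.X r s := by
  have hpt : ∀ u, c.X r u * c.X u s
      = 256 * ((if r = u then 1 else 0) * (if u = s then 1 else 0))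
        + ((if r = u then 1 else 0) * (16 * (c.d u * c.d s - 4 * c.C u s)))
        + ((if u = s then 1 else 0) * (16 * (c.d r * c.d u - 4 * c.C r u)))
        + (16 * (c.C r u * c.C u s) - 4 * c.d s * (c.C r u * c.d u)
          - 4 * c.d r * (c.C s u * c.d u) + c.d r * c.d s * (c.d u * c.d u)) := by
    intro u
    rw [c.C_symm s u]
    simp only [X]
    ring
  rw [sum_congr rfl fun u _ => hpt u]
  simp only [sum_add_distrib, sum_sub_distrib, ← mul_sum, ite_mul, one_mul, zero_mul,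
    sum_ite_eq, sum_ite_eq', mem_univ, if_true, c.C_sq, c.C_d, c.dd]
  simp only [X]
  ring

theorem X_par_sum (r s : ι) : ∑ u, (c.X s s * c.X r u - c.X r s * c.X s u) ^ 2
    = 16 * c.X s s * (c.X s s * c.X r r - c.X r s ^ 2) := by
  have hpt : ∀ u, (c.X s s * c.X r u - c.X r s * c.X s u) ^ 2
      = c.X s s ^ 2 * (c.X r u * c.X u r) - 2 * c.X s s * c.X r s * (c.X r u * c.X u s)
        + c.X r s ^ 2 * (c.X s u * c.X u s) := by
    intro u
    rw [c.X_symm u r, c.X_symm u s]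
    ring
  rw [sum_congr rfl fun u _ => hpt u, sum_add_distrib, sum_sub_distrib, ← mul_sum, ← mul_sum,
    ← mul_sum, c.X_mul, c.X_mul, c.X_mul]
  ring

theorem X_self_pos (r : ι) : 0 < c.X r r := by rw [X_self]; exact c.X_pos r

theorem X_sq_le (r s : ι) : c.X r s ^ 2 ≤ c.X r r * c.X s s := by
  have h : (0 : ℤ) ≤ ∑ u, (c.X s s * c.X r u - c.X r s * c.X s u) ^ 2 :=
    sum_nonneg fun u _ => sq_nonneg _
  rw [c.X_par_sum] at h
  nlinarith [c.X_self_pos s]

theorem X_par {r s : ι} (h : c.X r s ^ 2 = c.X r r * c.X s s) (u : ι) :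
    c.X s s * c.X r u = c.X r s * c.X s u := by
  have h0 := c.X_par_sum r s
  rw [h, mul_comm (c.X r r), sub_self, mul_zero] at h0
  exact sub_eq_zero.1 (sq_eq_zero_iff.1
    ((sum_eq_zero_iff_of_nonneg fun u _ => sq_nonneg _).1 h0 u (mem_univ u)))

theorem X_f (r : ι) : ∑ u, c.X r u * c.f u = 16 * c.f r := by
  have hpt : ∀ u, c.X r u * c.f u = (if r = u then 1 else 0) * (16 * c.f u)
      - 4 * (c.A r u * c.f u) - 4 * (c.B r u * c.f u) + c.d r * (c.d u * c.f u) := by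
    intro u
    simp only [X, C]
    ring
  rw [sum_congr rfl fun u _ => hpt u]
  simp only [sum_add_distrib, sum_sub_distrib, ← mul_sum, ite_mul, one_mul, zero_mul,
    sum_ite_eq, mem_univ, if_true, c.Af, c.Bf, c.df]
  ring

omit [DecidableEq ι] in
theorem row_A (r : ι) : ∑ u, c.A r u ^ 2 = 4 * c.A r r := by
  rw [← c.sqA r r]
  exact sum_congr rfl fun u _ => by rw [c.symA u r]; ring

omit [DecidableEq ι] in
theorem row_B (r : ι) : ∑ u, c.B r u ^ 2 = 4 * c.B r r := by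
  rw [← c.sqB r r]
  exact sum_congr rfl fun u _ => by rw [c.symB u r]; ring

omit [DecidableEq ι] in
theorem A_zero {r : ι} (h : c.A r r = 0) (u : ι) : c.A r u = 0 := by
  have h0 := c.row_A r
  rw [h, mul_zero] at h0
  exact sq_eq_zero_iff.1 ((sum_eq_zero_iff_of_nonneg fun u _ => sq_nonneg _).1 h0 u (mem_univ u))

omit [DecidableEq ι] in
theorem B_zero {r : ι} (h : c.B r r = 0) (u : ι) : c.B r u = 0 := by
  have h0 := c.row_B r
  rw [h, mul_zero] at h0
  exact sq_eq_zero_iff.1 ((sum_eq_zero_iff_of_nonneg fun u _ => sq_nonneg _).1 h0 u (mem_univ u))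

omit [DecidableEq ι] in
theorem d_sq_le (r : ι) : c.d r * c.d r ≤ 4 * c.A r r ∧ c.d r * c.d r ≤ 4 * c.B r r := by
  constructor
  · have h : (0 : ℤ) ≤ ∑ u, (4 * c.A r u - c.d r * c.d u) ^ 2 := sum_nonneg fun u _ => sq_nonneg _
    have e : ∀ u, (4 * c.A r u - c.d r * c.d u) ^ 2 = 16 * c.A r u ^ 2
        - 8 * c.d r * (c.A r u * c.d u) + c.d r ^ 2 * (c.d u * c.d u) := fun u => by ring
    rw [sum_congr rfl fun u _ => e u, sum_add_distrib, sum_sub_distrib, ← mul_sum, ← mul_sum,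
      ← mul_sum, c.row_A, c.Ad, c.dd] at h
    linarith
  · have h : (0 : ℤ) ≤ ∑ u, (4 * c.B r u - c.d r * c.d u) ^ 2 := sum_nonneg fun u _ => sq_nonneg _
    have e : ∀ u, (4 * c.B r u - c.d r * c.d u) ^ 2 = 16 * c.B r u ^ 2
        - 8 * c.d r * (c.B r u * c.d u) + c.d r ^ 2 * (c.d u * c.d u) := fun u => by ring
    rw [sum_congr rfl fun u _ => e u, sum_add_distrib, sum_sub_distrib, ← mul_sum, ← mul_sum,
      ← mul_sum, c.row_B, c.Bd, c.dd] at h
    linarith

/-- The possible rows. -/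
theorem row_type (r : ι) :
    (c.d r = 0 ∧ (c.A r r = 2 ∧ c.B r r = 0 ∨ c.A r r = 0 ∧ c.B r r = 2))
    ∨ ((c.d r = 1 ∨ c.d r = -1) ∧ (c.A r r = 1 ∧ c.B r r = 1 ∨ c.A r r = 1 ∧ c.B r r = 3
        ∨ c.A r r = 3 ∧ c.B r r = 1))
    ∨ ((c.d r = 2 ∨ c.d r = -2) ∧ c.A r r = 2 ∧ c.B r r = 2)
    ∨ ((c.d r = 3 ∨ c.d r = -3) ∧ c.A r r = 3 ∧ c.B r r = 3) := by
  obtain ⟨h1, h2⟩ := c.d_sq_le r
  have h3 := c.X_pos r
  have h4 := c.parA r
  have h5 := c.parB r
  have hnot : ¬ (c.A r r = 0 ∧ c.B r r = 0) := fun ⟨ha, hb⟩ => by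
    have hd : c.d r = 0 := mul_self_eq_zero.1 (le_antisymm (by linarith) (mul_self_nonneg _))
    have hr : r ≠ c.t := fun e => by rw [e, c.d_t] at hd; exact one_ne_zero hd
    exact c.X_ne r hr (by rw [c.A_zero ha, c.B_zero hb, hd]; rfl)
  have hlo : -4 < c.d r := by nlinarith
  have hhi : c.d r < 4 := by nlinarith
  interval_cases hd : c.d r <;> omega

/-- The rows with `d ^ 2 = a`. -/
def N (a : ℤ) : Finset ι := univ.filter fun r => c.d r * c.d r = a

/-- The rows of height zero with four units of weight. -/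
def Ms : Finset ι := (c.N 1).filter fun r => c.A r r + c.B r r = 4

omit [DecidableEq ι] in
theorem mem_N {a : ℤ} {r : ι} : r ∈ c.N a ↔ c.d r * c.d r = a := by simp [N]

theorem N0 {r : ι} (h : r ∈ c.N 0) : c.d r = 0 ∧ c.X r r = 8
    ∧ (c.A r r = 0 ∨ c.B r r = 0) := by
  rw [mem_N] at h
  rw [X_self]
  rcases c.row_type r with ⟨h1, h2 | h2⟩ | ⟨h1 | h1, -⟩ | ⟨h1 | h1, -, -⟩ | ⟨h1 | h1, -, -⟩ <;>
    rw [h1] at h ⊢ <;> omega

theorem N1 {r : ι} (h : r ∈ c.N 1) : (c.d r = 1 ∨ c.d r = -1)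
    ∧ (c.A r r + c.B r r = 2 ∧ c.X r r = 9 ∨ c.A r r + c.B r r = 4 ∧ c.X r r = 1) := by
  rw [mem_N] at h
  rw [X_self]
  rcases c.row_type r with ⟨h1, -⟩ | ⟨h1 | h1, h2 | h2 | h2⟩ | ⟨h1 | h1, -, -⟩ | ⟨h1 | h1, -, -⟩ <;>
    rw [h1] at h ⊢ <;> omega

theorem N4 {r : ι} (h : r ∈ c.N 4) : (c.d r = 2 ∨ c.d r = -2)
    ∧ c.A r r = 2 ∧ c.B r r = 2 ∧ c.X r r = 4 := by
  rw [mem_N] at h
  rw [X_self]
  rcases c.row_type r with ⟨h1, -⟩ | ⟨h1 | h1, -⟩ | ⟨h1 | h1, h2, h3⟩ | ⟨h1 | h1, -, -⟩ <;>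
    rw [h1] at h ⊢ <;> omega

theorem N9 {r : ι} (h : r ∈ c.N 9) : (c.d r = 3 ∨ c.d r = -3)
    ∧ c.A r r = 3 ∧ c.B r r = 3 ∧ c.X r r = 1 := by
  rw [mem_N] at h
  rw [X_self]
  rcases c.row_type r with ⟨h1, -⟩ | ⟨h1 | h1, -⟩ | ⟨h1 | h1, -, -⟩ | ⟨h1 | h1, h2, h3⟩ <;>
    rw [h1] at h ⊢ <;> omega

theorem sum_split {α : Type*} [AddCommMonoid α] (g : ι → α) :
    ∑ r, g r = ∑ r ∈ c.N 0, g r + ∑ r ∈ c.N 1, g r + ∑ r ∈ c.N 4, g r + ∑ r ∈ c.N 9, g r := by
  simp only [N, sum_filter, ← sum_add_distrib]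
  refine sum_congr rfl fun r _ => ?_
  rcases c.row_type r with ⟨h1, -⟩ | ⟨h1 | h1, -⟩ | ⟨h1 | h1, -, -⟩ | ⟨h1 | h1, -, -⟩ <;>
    simp [h1]

theorem count_d : ((c.N 1).card : ℤ) + 4 * (c.N 4).card + 9 * (c.N 9).card = 16 := by
  rw [← c.dd, c.sum_split, sum_congr (s₁ := c.N 0) rfl (g := fun _ => (0 : ℤ)) fun r hr => c.mem_N.1 hr,
    sum_congr (s₁ := c.N 1) rfl (g := fun _ => (1 : ℤ)) fun r hr => c.mem_N.1 hr,
    sum_congr (s₁ := c.N 4) rfl (g := fun _ => (4 : ℤ)) fun r hr => c.mem_N.1 hr,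
    sum_congr (s₁ := c.N 9) rfl (g := fun _ => (9 : ℤ)) fun r hr => c.mem_N.1 hr]
  simp only [sum_const, nsmul_eq_mul]
  push_cast
  ring

theorem count_trace : ((c.N 0).card : ℤ) + c.Ms.card
    = 2 * (c.N 4).card + 6 * (c.N 9).card := by
  have h0 : ∑ r, (c.A r r + c.B r r - 2 * (c.d r * c.d r)) = 0 := by
    rw [sum_sub_distrib, sum_add_distrib, c.traceA, c.traceB, ← mul_sum, c.dd]; norm_num
  rw [c.sum_split,
    sum_congr (s₁ := c.N 0) rfl (g := fun _ => (2 : ℤ)) fun r hr => by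
      rcases c.row_type r with ⟨h1, h2 | h2⟩ | ⟨h1 | h1, -⟩ | ⟨h1 | h1, -, -⟩ | ⟨h1 | h1, -, -⟩ <;>
        simp [c.mem_N, h1] at hr ⊢ <;> omega,
    sum_congr (s₁ := c.N 1) rfl (g := fun r => if c.A r r + c.B r r = 4 then (2 : ℤ) else 0)
      fun r hr => by
        rw [c.mem_N.1 hr]
        rcases (c.N1 hr).2 with ⟨h, -⟩ | ⟨h, -⟩ <;> simp [h],
    sum_congr (s₁ := c.N 4) rfl (g := fun _ => (-4 : ℤ)) fun r hr => by
      obtain ⟨-, h2, h3, -⟩ := c.N4 hr; rw [c.mem_N.1 hr, h2, h3]; norm_num,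
    sum_congr (s₁ := c.N 9) rfl (g := fun _ => (-12 : ℤ)) fun r hr => by
      obtain ⟨-, h2, h3, -⟩ := c.N9 hr; rw [c.mem_N.1 hr, h2, h3]; norm_num,
    ← sum_filter] at h0
  simp only [sum_const, nsmul_eq_mul] at h0
  change _ + ((c.Ms.card : ℤ) * 2) + _ + _ = _ at h0
  linarith

theorem t_mem : c.t ∈ c.N 1 := by rw [mem_N, c.d_t, one_mul]

theorem X_t : c.X c.t c.t = 9 := by rw [X_self, c.A_t, c.B_t, c.d_t]; norm_num

theorem t_notMem_Ms : c.t ∉ c.Ms := by simp [Ms, c.A_t, c.B_t]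

theorem Ms_lt : c.Ms.card + 1 ≤ (c.N 1).card := by
  rw [← card_insert_of_notMem c.t_notMem_Ms]
  exact card_le_card (insert_subset c.t_mem (filter_subset _ _))

/-- The excess of a row against the trivial row. -/
def W (u : ι) : ℤ := c.C u c.t * (c.C u c.t - c.d u)

theorem sum_W : ∑ u, c.W u = 2 := by
  have e : ∀ u, c.W u = c.C c.t u * c.C u c.t - c.C c.t u * c.d u := fun u => by
    rw [W, c.C_symm u c.t]; ring
  rw [sum_congr rfl fun u _ => e u, sum_sub_distrib, c.C_sq, c.C_d, c.d_t, C, c.A_t, c.B_t]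
  norm_num

theorem mul_sub_one_nonneg (w : ℤ) : 0 ≤ w * (w - 1) := by
  rcases le_or_gt w 0 with h | h <;> nlinarith

theorem W0 {u : ι} (h : u ∈ c.N 0) : 1 ≤ c.W u := by
  obtain ⟨hd, -, -⟩ := c.N0 h
  have hu : u ≠ c.t := fun e => by rw [e, c.d_t] at hd; exact one_ne_zero hd
  have h1 := c.X_ne u hu
  rw [hd] at h1
  have hw : c.C u c.t ≠ 0 := by rw [C]; omega
  rw [W, hd, sub_zero]
  exact Int.add_one_le_iff.2 (mul_self_pos.2 hw)

theorem W1 {u : ι} (h : u ∈ c.N 1) : 0 ≤ c.W u := by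
  rcases (c.N1 h).1 with hd | hd <;> rw [W, hd]
  · exact mul_sub_one_nonneg _
  · nlinarith [mul_sub_one_nonneg (-(c.C u c.t))]

theorem W4 {u : ι} (h : u ∈ c.N 4) : -1 ≤ c.W u := by
  rcases (c.N4 h).1 with hd | hd <;> rw [W, hd]
  · nlinarith [sq_nonneg (c.C u c.t - 1)]
  · nlinarith [sq_nonneg (c.C u c.t + 1)]

theorem W9 {u : ι} (h : u ∈ c.N 9) : -2 ≤ c.W u := by
  rcases (c.N9 h).1 with hd | hd <;> rw [W, hd]
  · nlinarith [mul_sub_one_nonneg (c.C u c.t - 1)]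
  · nlinarith [mul_sub_one_nonneg (-(c.C u c.t) - 1)]

theorem W_t : c.W c.t = 2 := by rw [W, C, c.A_t, c.B_t, c.d_t]; norm_num

theorem sum_W_rest : ∑ u ∈ c.N 0, (c.W u - 1) + ∑ u ∈ (c.N 1).erase c.t, c.W u
    + ∑ u ∈ c.N 4, (c.W u + 1) + ∑ u ∈ c.N 9, (c.W u + 2)
    = (c.N 4).card + 2 * (c.N 9).card - (c.N 0).card := by
  have h := c.sum_W
  rw [c.sum_split, ← add_sum_erase _ _ c.t_mem, c.W_t] at h
  simp only [sum_sub_distrib, sum_add_distrib, sum_const, nsmul_eq_mul]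
  linarith

theorem count_zero : ((c.N 0).card : ℤ) ≤ (c.N 4).card + 2 * (c.N 9).card := by
  have h := c.sum_W_rest
  have h0 : 0 ≤ ∑ u ∈ c.N 0, (c.W u - 1) := sum_nonneg fun u hu => by linarith [c.W0 hu]
  have h1 : 0 ≤ ∑ u ∈ (c.N 1).erase c.t, c.W u :=
    sum_nonneg fun u hu => c.W1 (mem_of_mem_erase hu)
  have h4 : 0 ≤ ∑ u ∈ c.N 4, (c.W u + 1) := sum_nonneg fun u hu => by linarith [c.W4 hu]
  have h9 : 0 ≤ ∑ u ∈ c.N 9, (c.W u + 2) := sum_nonneg fun u hu => by linarith [c.W9 hu]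
  linarith

theorem Ms_X {r : ι} (h : r ∈ c.Ms) :
    r ∈ c.N 1 ∧ c.X r r = 1 ∧ (c.d r = 1 ∨ c.d r = -1) := by
  obtain ⟨h1, h2⟩ := mem_filter.1 h
  refine ⟨h1, ?_, (c.N1 h1).1⟩
  rcases (c.N1 h1).2 with ⟨h3, -⟩ | ⟨-, h3⟩
  · omega
  · exact h3

theorem Ms_N0 {r u : ι} (hr : r ∈ c.Ms) (hu : u ∈ c.N 0) : c.X r u = 0 ∧ c.A r u = 0 := by
  obtain ⟨-, hX, -⟩ := c.Ms_X hr
  obtain ⟨hd, hXu, hab⟩ := c.N0 hu
  have hne : r ≠ u := fun e => by subst e; omega
  have h := c.X_sq_le r u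
  rw [hX, hXu, c.X_of_ne hne, hd] at h
  have hC : c.C r u = 0 := by
    by_contra hC
    nlinarith [Int.add_one_le_iff.2 (mul_self_pos.2 hC)]
  refine ⟨by rw [c.X_of_ne hne, hd, hC]; ring, ?_⟩
  rcases hab with h0 | h0
  · rw [c.symA, c.A_zero h0]
  · rw [C, c.symB, c.B_zero h0, add_zero] at hC
    exact hC

theorem Ms_N4 {r u : ι} (hr : r ∈ c.Ms) (hu : u ∈ c.N 4) : c.X r u ^ 2 = 4
    ∧ (c.C r u = 0 ∨ 2 * c.C r u = c.d r * c.d u) := by
  obtain ⟨-, hX, hdr⟩ := c.Ms_X hr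
  obtain ⟨hdu, -, -, hXu⟩ := c.N4 hu
  have hne : r ≠ u := fun e => by subst e; omega
  have h := c.X_sq_le r u
  rw [hX, hXu] at h
  have hlo : -2 ≤ c.X r u := by nlinarith
  have hhi : c.X r u ≤ 2 := by nlinarith
  have e := c.X_of_ne hne
  rcases hdr with hdr | hdr <;> rcases hdu with hdu | hdu <;> rw [hdr, hdu] at e ⊢ <;>
    interval_cases hx : c.X r u <;> first | omega | exact ⟨by norm_num, by omega⟩

theorem Ms_N9 {r u : ι} (hr : r ∈ c.Ms) (hu : u ∈ c.N 9) : c.X r u ^ 2 = 1 := by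
  obtain ⟨-, hX, hdr⟩ := c.Ms_X hr
  obtain ⟨hdu, -, -, hXu⟩ := c.N9 hu
  have hne : r ≠ u := fun e => by subst e; omega
  have h := c.X_sq_le r u
  rw [hX, hXu] at h
  have hlo : -1 ≤ c.X r u := by nlinarith
  have hhi : c.X r u ≤ 1 := by nlinarith
  have e := c.X_of_ne hne
  rcases hdr with hdr | hdr <;> rcases hdu with hdu | hdu <;> rw [hdr, hdu] at e <;>
    interval_cases hx : c.X r u <;> first | omega | norm_num

theorem Ms_N1_odd {r u : ι} (hr : r ∈ c.Ms) (hu : u ∈ c.N 1) : 1 ≤ c.X r u ^ 2 := by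
  obtain ⟨-, hX, hdr⟩ := c.Ms_X hr
  by_cases hne : r = u
  · subst hne; rw [hX]; norm_num
  · have e := c.X_of_ne hne
    have h0 : c.X r u ≠ 0 := by
      rcases hdr with hdr | hdr <;> rcases (c.N1 hu).1 with hdu | hdu <;> rw [hdr, hdu] at e <;>
        omega
    nlinarith [Int.add_one_le_iff.2 (mul_self_pos.2 h0)]

theorem Ms_sum {r : ι} (hr : r ∈ c.Ms) :
    ∑ u ∈ c.N 1, (c.X r u ^ 2 - 1) = 8 * ((c.N 9).card : ℤ) := by
  have h : ∑ u, c.X r u ^ 2 = 16 := by
    rw [sum_congr rfl (g := fun u => c.X r u * c.X u r) fun u _ => by rw [c.X_symm u r]; ring,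
      c.X_mul, (c.Ms_X hr).2.1, mul_one]
  rw [c.sum_split, sum_congr (s₁ := c.N 0) rfl (g := fun _ => (0 : ℤ)) fun u hu => by
      rw [(c.Ms_N0 hr hu).1]; norm_num,
    sum_congr (s₁ := c.N 4) rfl (g := fun _ => (4 : ℤ)) fun u hu => (c.Ms_N4 hr hu).1,
    sum_congr (s₁ := c.N 9) rfl (g := fun _ => (1 : ℤ)) fun u hu => c.Ms_N9 hr hu] at h
  simp only [sum_const_zero, sum_const, nsmul_eq_mul, mul_one] at h
  rw [sum_sub_distrib, sum_const, nsmul_eq_mul, mul_one]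
  linarith [c.count_d]

/-- Without rows of weight three the inner products among the odd rows vanish. -/
theorem Ms_N1 (h9 : c.N 9 = ∅) {r u : ι} (hr : r ∈ c.Ms) (hu : u ∈ c.N 1) :
    c.X r u = c.d r * c.d u ∧ (r ≠ u → c.C r u = 0) := by
  obtain ⟨-, hX, hdr⟩ := c.Ms_X hr
  have h := c.Ms_sum hr
  rw [h9, card_empty, Nat.cast_zero, mul_zero] at h
  have h1 := (sum_eq_zero_iff_of_nonneg fun v hv => sub_nonneg.2 (c.Ms_N1_odd hr hv)).1 h u hu
  by_cases hne : r = u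
  · subst hne
    refine ⟨?_, fun hne => absurd rfl hne⟩
    rcases hdr with hdr | hdr <;> rw [hX, hdr] <;> norm_num
  · have e := c.X_of_ne hne
    have hlo : -1 ≤ c.X r u := by nlinarith
    have hhi : c.X r u ≤ 1 := by nlinarith
    rcases hdr with hdr | hdr <;> rcases (c.N1 hu).1 with hdu | hdu <;> rw [hdr, hdu] at e ⊢ <;>
      exact ⟨by omega, fun _ => by omega⟩

/-- A row of weight four meets exactly two rows with `d = ±2`. -/
theorem Ms_two (h9 : c.N 9 = ∅) {r : ι} (hr : r ∈ c.Ms) :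
    ∑ u ∈ c.N 4, c.d r * (c.C r u * c.d u) = 4 := by
  obtain ⟨h1, -, hdr⟩ := c.Ms_X hr
  have h := c.C_d r
  rw [c.sum_split, h9, sum_empty, add_zero, sum_eq_zero (s := c.N 0) fun u hu => by
      rw [(c.N0 hu).1, mul_zero],
    sum_eq_single_of_mem r h1 fun u hu hne => by
      rw [(c.Ms_N1 h9 hr hu).2 (Ne.symm hne), zero_mul],
    show c.C r r = 4 from (mem_filter.1 hr).2] at h
  rw [← mul_sum]
  rcases hdr with hdr | hdr <;> rw [hdr] at h ⊢ <;> linarith

theorem Ms_parity {r : ι} (hr : r ∈ c.Ms) : 2 ∣ ∑ u ∈ c.N 4, c.A r u := by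
  have h : ∑ u, (c.A r u ^ 2 - c.A r u * c.d u) = 4 * c.A r r - 4 * c.d r := by
    rw [sum_sub_distrib, c.row_A, c.Ad]
  rw [c.sum_split, sum_eq_zero (s := c.N 0) fun u hu => by rw [(c.Ms_N0 hr hu).2]; ring] at h
  have h1 : 2 ∣ ∑ u ∈ c.N 1, (c.A r u ^ 2 - c.A r u * c.d u) := dvd_sum fun u hu => by
    obtain ⟨k, hk⟩ : Even (c.A r u * (c.A r u - 1)) := Int.even_mul_pred_self _
    rcases (c.N1 hu).1 with hd | hd <;> rw [hd]
    · exact ⟨k, by linear_combination hk⟩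
    · exact ⟨k + c.A r u, by linear_combination hk⟩
  have h9 : 2 ∣ ∑ u ∈ c.N 9, (c.A r u ^ 2 - c.A r u * c.d u) := dvd_sum fun u hu => by
    obtain ⟨k, hk⟩ : Even (c.A r u * (c.A r u - 1)) := Int.even_mul_pred_self _
    rcases (c.N9 hu).1 with hd | hd <;> rw [hd]
    · exact ⟨k - c.A r u, by linear_combination hk⟩
    · exact ⟨k + 2 * c.A r u, by linear_combination hk⟩
  have h4 : 2 ∣ ∑ u ∈ c.N 4, ((c.A r u ^ 2 - c.A r u * c.d u) - c.A r u) := dvd_sum fun u hu => by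
    obtain ⟨k, hk⟩ : Even (c.A r u * (c.A r u - 1)) := Int.even_mul_pred_self _
    rcases (c.N4 hu).1 with hd | hd <;> rw [hd]
    · exact ⟨k - c.A r u, by linear_combination hk⟩
    · exact ⟨k + c.A r u, by linear_combination hk⟩
  rw [sum_sub_distrib] at h4
  omega

/-- Three rows with `d = ±2` are impossible. -/
theorem not_three (h9 : c.N 9 = ∅) : (c.N 4).card ≠ 3 := by
  intro h4
  have hd := c.count_d
  have htr := c.count_trace
  have hz := c.count_zero
  have hlt := c.Ms_lt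
  rw [h9, h4, card_empty] at hd htr hz
  have hn1 : (c.N 1).card = 4 := by omega
  have hn0 : (c.N 0).card = 3 := by omega
  have hm : c.Ms.card = 3 := by omega
  have hMs : (c.N 1).erase c.t = c.Ms := by
    refine (eq_of_subset_of_card_le ?_ (by rw [card_erase_of_mem c.t_mem, hn1, hm])).symm
    exact fun u hu => mem_erase.2 ⟨fun e => c.t_notMem_Ms (e ▸ hu), (mem_filter.1 hu).1⟩
  have hrest := c.sum_W_rest
  rw [h9, h4, hn0, sum_empty, card_empty] at hrest
  have hs0 : 0 ≤ ∑ u ∈ c.N 0, (c.W u - 1) := sum_nonneg fun u hu => by linarith [c.W0 hu]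
  have hs1 : 0 ≤ ∑ u ∈ (c.N 1).erase c.t, c.W u :=
    sum_nonneg fun u hu => c.W1 (mem_of_mem_erase hu)
  have hs4 : ∑ u ∈ c.N 4, (c.W u + 1) = 0 := le_antisymm (by push_cast at hrest; linarith)
    (sum_nonneg fun u hu => by linarith [c.W4 hu])
  have hhalf : ∀ u ∈ c.N 4, c.C u c.t = 1 ∨ c.C u c.t = -1 := fun u hu => by
    have h := (sum_eq_zero_iff_of_nonneg fun v hv => by linarith [c.W4 hv]).1 hs4 u hu
    rw [W] at h
    rcases (c.N4 hu).1 with hd | hd <;> rw [hd] at h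
    · exact Or.inl (sub_eq_zero.1 (sq_eq_zero_iff.1 (by linear_combination h)))
    · exact Or.inr (eq_neg_of_add_eq_zero_left (sq_eq_zero_iff.1 (by linear_combination h)))
  have hM0 : ∀ u ∈ c.Ms, c.C u c.t = 0 := fun u hu =>
    (c.Ms_N1 h9 hu c.t_mem).2 fun e => c.t_notMem_Ms (e ▸ hu)
  have hab := c.mulAB c.t c.t
  rw [c.sum_split, h9, sum_empty, add_zero, sum_eq_zero (s := c.N 0) fun u hu => by
      rcases (c.N0 hu).2.2 with h | h
      · rw [c.symA, c.A_zero h, zero_mul]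
      · rw [c.B_zero h, mul_zero],
    ← add_sum_erase _ _ c.t_mem, hMs, c.A_t, c.B_t, c.d_t] at hab
  have hle1 : ∀ u ∈ c.Ms, c.A c.t u * c.B u c.t ≤ 0 := fun u hu => by
    have h := hM0 u hu
    rw [C, c.symA] at h
    rw [show c.B u c.t = -c.A c.t u by linarith]
    nlinarith [mul_self_nonneg (c.A c.t u)]
  have hle4 : ∀ u ∈ c.N 4, c.A c.t u * c.B u c.t ≤ 0 := fun u hu => by
    have h := hhalf u hu
    rw [C, c.symA] at h
    rcases h with h | h
    · rw [show c.B u c.t = 1 - c.A c.t u by linarith]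
      nlinarith [mul_sub_one_nonneg (c.A c.t u)]
    · rw [show c.B u c.t = -1 - c.A c.t u by linarith]
      nlinarith [mul_sub_one_nonneg (-(c.A c.t u))]
  have h1 : ∑ u ∈ c.Ms, c.A c.t u * c.B u c.t = 0 := by
    linarith [sum_nonpos hle1, sum_nonpos hle4]
  have hA0 : ∀ u ∈ c.Ms, c.A c.t u = 0 := fun u hu => by
    have h := (sum_eq_zero_iff_of_nonpos hle1).1 h1 u hu
    have h' := hM0 u hu
    rw [C, c.symA] at h'
    rw [show c.B u c.t = -c.A c.t u by linarith, mul_neg, neg_eq_zero] at h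
    exact mul_self_eq_zero.1 h
  have hAd := c.Ad c.t
  rw [c.sum_split, h9, sum_empty, sum_eq_zero (s := c.N 0) fun u hu => by rw [(c.N0 hu).1, mul_zero],
    ← add_sum_erase _ _ c.t_mem, hMs, sum_eq_zero (s := c.Ms) fun u hu => by rw [hA0 u hu, zero_mul],
    c.A_t, c.d_t] at hAd
  have heven : 2 ∣ ∑ u ∈ c.N 4, c.A c.t u * c.d u := dvd_sum fun u hu => by
    rcases (c.N4 hu).1 with hd | hd <;> rw [hd] <;> omega
  omega

/-- Two rows with `d = ±2` are impossible. -/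
theorem not_two (h9 : c.N 9 = ∅) : (c.N 4).card ≠ 2 := by
  intro h4
  have hd := c.count_d
  have htr := c.count_trace
  have hz := c.count_zero
  rw [h9, h4, card_empty] at hd htr hz
  obtain ⟨m, hm⟩ := card_pos.1 (show 0 < c.Ms.card by omega)
  obtain ⟨a, b, hab, hN⟩ := card_eq_two.1 h4
  have ha : a ∈ c.N 4 := by rw [hN]; simp
  have hb : b ∈ c.N 4 := by rw [hN]; simp
  obtain ⟨hmN, hmX, hdm⟩ := c.Ms_X hm
  have hmne : ∀ u ∈ c.N 4, m ≠ u := fun u hu e => by
    subst e; have := (c.N4 hu).2.2.2; omega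
  have hval : ∀ u ∈ c.N 4, 2 * c.C m u = c.d m * c.d u := by
    have h2 := c.Ms_two h9 hm
    rw [hN, sum_pair hab] at h2
    have key : ∀ u ∈ c.N 4, c.d m * (c.C m u * c.d u) ≤ 2 ∧
        (c.C m u = 0 → c.d m * (c.C m u * c.d u) = 0) := fun u hu => by
      refine ⟨?_, fun e => by rw [e]; ring⟩
      rcases (c.Ms_N4 hm hu).2 with e | e
      · rw [e]; norm_num
      · rcases hdm with hdm | hdm <;> rcases (c.N4 hu).1 with hdu | hdu <;>
          rw [hdm, hdu] at e ⊢ <;> omega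
    intro u hu
    refine ((c.Ms_N4 hm hu).2).resolve_left fun e => ?_
    have h := key u hu
    have h' := h.2 e
    rw [hN, mem_insert, mem_singleton] at hu
    rcases hu with e1 | e1 <;> rw [e1] at h' <;> linarith [(key a ha).1, (key b hb).1]
  have hXm : ∀ u ∈ c.N 4, c.X m u = -(c.d m * c.d u) := fun u hu => by
    rw [c.X_of_ne (hmne u hu)]; linarith [hval u hu]
  -- every row with `d = ±2` is parallel to `m`
  have hpar : ∀ v ∈ c.N 4, ∀ u, c.X v u = -(c.d m * c.d v) * c.X m u := fun v hv u => by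
    have h := c.X_par (r := v) (s := m) (by
      rw [c.X_symm v m, (c.Ms_N4 hm hv).1, (c.N4 hv).2.2.2, hmX, mul_one]) u
    rw [hmX, one_mul, c.X_symm v m, hXm v hv] at h
    exact h
  have hdm2 : c.d m * c.d m = 1 := c.mem_N.1 hmN
  have hC0 : ∀ v ∈ c.N 4, ∀ u ∈ c.N 0, c.A v u * c.B u v = 0 ∧ c.A v u = 0 := fun v hv u hu => by
    have hne : v ≠ u := fun e => by subst e; have := c.mem_N.1 hv; have := c.mem_N.1 hu; omega
    have h := hpar v hv u
    rw [(c.Ms_N0 hm hu).1, c.X_of_ne hne, (c.N0 hu).1] at h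
    have hC : c.C v u = 0 := by linarith
    have hA : c.A v u = 0 := by
      rcases (c.N0 hu).2.2 with h0 | h0
      · rw [c.symA, c.A_zero h0]
      · rw [C, c.symB, c.B_zero h0, add_zero] at hC
        exact hC
    exact ⟨by rw [hA, zero_mul], hA⟩
  have hC4 : ∀ v ∈ c.N 4, ∀ w ∈ c.N 4, v ≠ w → c.C v w = 0 := fun v hv w hw hne => by
    have h := hpar v hv w
    rw [hXm w hw, c.X_of_ne hne] at h
    have : c.d v * c.d w - 4 * c.C v w = c.d m * c.d m * (c.d v * c.d w) := by rw [h]; ring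
    rw [hdm2] at this
    linarith
  have hC1 : ∀ v ∈ c.N 4, ∀ u ∈ c.N 1, 2 * c.C v u = c.d v * c.d u := fun v hv u hu => by
    have hne : v ≠ u := fun e => by subst e; have := c.mem_N.1 hv; have := c.mem_N.1 hu; omega
    have h := hpar v hv u
    rw [(c.Ms_N1 h9 hm hu).1, c.X_of_ne hne] at h
    have : c.d v * c.d u - 4 * c.C v u = -(c.d m * c.d m * (c.d v * c.d u)) := by rw [h]; ring
    rw [hdm2] at this
    linarith
  have hunit : ∀ v ∈ c.N 4, ∀ u ∈ c.N 1, c.C v u = 1 ∨ c.C v u = -1 := fun v hv u hu => by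
    have h := hC1 v hv u hu
    rcases (c.N4 hv).1 with hdv | hdv <;> rcases (c.N1 hu).1 with hdu | hdu <;>
      rw [hdv, hdu] at h <;> omega
  -- each row with `d = ±2` splits the odd rows
  have hsplit : ∀ v ∈ c.N 4, ∀ w ∈ c.N 4, v ≠ w → c.N 4 = {v, w} →
      c.A v w = 0 ∧ (∀ u ∈ c.N 1, c.A v u = 0 ∨ c.A v u = c.C v u)
        ∧ ∑ u ∈ c.N 1, c.A v u * c.A v u = 4 := fun v hv w hw hne hvw => by
    obtain ⟨-, hAv, hBv, -⟩ := c.N4 hv
    have hBw : c.B w v = -c.A v w := by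
      have h := hC4 v hv w hw hne
      rw [C, c.symB] at h; linarith
    have hBu : ∀ u, c.B u v = c.C v u - c.A v u := fun u => by rw [C, c.symB u v]; ring
    have h := c.mulAB v v
    rw [c.sum_split, h9, sum_empty, add_zero, sum_eq_zero (s := c.N 0) fun u hu => (hC0 v hv u hu).1,
      hvw, sum_pair hne, hAv, hBv, hBw, c.mem_N.1 hv] at h
    have hle : ∀ u ∈ c.N 1, c.A v u * c.B u v ≤ 0 := fun u hu => by
      rw [hBu]
      rcases hunit v hv u hu with e | e <;> rw [e]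
      · nlinarith [mul_sub_one_nonneg (c.A v u)]
      · nlinarith [mul_sub_one_nonneg (-(c.A v u))]
    have hsum : ∑ u ∈ c.N 1, c.A v u * c.B u v = 0 := by
      linarith [sum_nonpos hle, mul_self_nonneg (c.A v w)]
    have hvw0 : c.A v w = 0 := mul_self_eq_zero.1 (by linarith)
    refine ⟨hvw0, fun u hu => ?_, ?_⟩
    · have h0 := (sum_eq_zero_iff_of_nonpos hle).1 hsum u hu
      rcases mul_eq_zero.1 h0 with h0 | h0
      · exact Or.inl h0
      · rw [hBu, sub_eq_zero] at h0; exact Or.inr h0.symm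
    · have hr := c.row_A v
      rw [c.sum_split, h9, sum_empty, add_zero, sum_eq_zero (s := c.N 0) fun u hu => by
        rw [(hC0 v hv u hu).2]; ring, hvw, sum_pair hne, hAv, hvw0] at hr
      rw [sum_congr rfl fun u _ => (sq (c.A v u)).symm]
      linarith
  obtain ⟨hAab, ha1, ha4⟩ := hsplit a ha b hb hab hN
  obtain ⟨-, hb1, hb4⟩ := hsplit b hb a ha hab.symm (by rw [hN, pair_comm])
  have hn1 : ((c.N 1).card : ℤ) = 8 := by omega
  -- the mixed product
  have hBu : ∀ u, c.B u b = c.C b u - c.A b u := fun u => by rw [C, c.symB u b]; ring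
  have h := c.mulAB a b
  rw [c.sum_split, h9, sum_empty, add_zero, sum_eq_zero (s := c.N 0) fun u hu => by
      rw [(hC0 a ha u hu).2, zero_mul],
    hN, sum_pair hab, hAab, zero_mul, add_zero,
    show c.B a b = 0 by
      have e := hC4 a ha b hb hab
      rw [C, hAab, zero_add] at e; exact e, mul_zero, add_zero, zero_add] at h
  have hbound : ∀ u ∈ c.N 1,
      c.d a * c.d b * (c.A a u * c.B u b) ≤ 4 * (c.A a u * c.A a u) ∧
      (c.d a * c.d b * (c.A a u * c.B u b) = 4 * (c.A a u * c.A a u) →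
        c.A a u * c.A a u + c.A b u * c.A b u ≤ 1) := fun u hu => by
    have e1 := hC1 a ha u hu
    have e2 := hC1 b hb u hu
    have e3 := c.mem_N.1 hu
    have hk : c.d a * c.d b = 4 * (c.C a u * c.C b u) := by
      linear_combination (-2 * c.C b u) * e1 - c.d a * c.d u * e2 - c.d a * c.d b * e3
    have q1 : c.C a u * c.C a u = 1 := by rcases hunit a ha u hu with k | k <;> rw [k] <;> rfl
    have q2 : c.C b u * c.C b u = 1 := by rcases hunit b hb u hu with k | k <;> rw [k] <;> rfl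
    rw [hBu, hk]
    rcases ha1 u hu with h1 | h1 <;> rcases hb1 u hu with h2 | h2 <;> rw [h1, h2]
    · exact ⟨by norm_num, fun _ => by norm_num⟩
    · exact ⟨by norm_num, fun _ => by linarith⟩
    · refine ⟨le_of_eq ?_, fun _ => by linarith⟩
      linear_combination (4 * c.C b u * c.C b u - 4) * q1 + 4 * q2 + 4 * q1 - 4 * q1
    · refine ⟨by linarith [sub_self (c.C b u)], fun h => ?_⟩
      rw [sub_self, mul_zero, mul_zero] at h
      linarith
  have hsum : ∑ u ∈ c.N 1, c.d a * c.d b * (c.A a u * c.B u b)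
      = ∑ u ∈ c.N 1, 4 * (c.A a u * c.A a u) := by
    rw [← mul_sum, ← mul_sum, h, ha4]
    have e1 := c.mem_N.1 ha
    have e2 := c.mem_N.1 hb
    linear_combination e2 * (c.d a * c.d a) + 4 * e1
  have hone : ∀ u ∈ c.N 1, c.A a u * c.A a u + c.A b u * c.A b u ≤ 1 := fun u hu =>
    (hbound u hu).2 ((sum_eq_sum_iff_of_le fun v hv => (hbound v hv).1).1 hsum u hu)
  have hall : ∑ u ∈ c.N 1, (c.A a u * c.A a u + c.A b u * c.A b u)
      = ∑ u ∈ c.N 1, (1 : ℤ) := by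
    rw [sum_add_distrib, ha4, hb4, sum_const, nsmul_eq_mul, mul_one, hn1]; norm_num
  have hmodd := (sum_eq_sum_iff_of_le hone).1 hall m hmN
  have hpar2 := c.Ms_parity hm
  rw [hN, sum_pair hab, c.symA m a, c.symA m b] at hpar2
  obtain ⟨k, hk⟩ : Even (c.A a m * (c.A a m - 1)) := Int.even_mul_pred_self _
  obtain ⟨l, hl⟩ : Even (c.A b m * (c.A b m - 1)) := Int.even_mul_pred_self _
  have : 2 ∣ c.A a m * c.A a m + c.A b m * c.A b m := by
    obtain ⟨j, hj⟩ := hpar2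
    exact ⟨k + l + j, by linear_combination hk + hl + hj⟩
  omega

/-- No row has `d = ±3`. -/
theorem N9_empty : c.N 9 = ∅ := by
  by_contra hne
  obtain ⟨v, hv⟩ := nonempty_iff_ne_empty.2 hne
  have hd := c.count_d
  have htr := c.count_trace
  have hz := c.count_zero
  have hlt := c.Ms_lt
  have h9 : (c.N 9).card = 1 := by
    have := card_pos.2 ⟨v, hv⟩
    omega
  have hv9 : c.N 9 = {v} := by
    obtain ⟨x, hx⟩ := card_eq_one.1 h9
    rw [hx, mem_singleton] at hv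
    rw [hx, hv]
  rw [h9] at hd htr hz
  have h4 : (c.N 4).card = 0 := by omega
  have hn1 : (c.N 1).card = 7 := by omega
  have hMsW : ∀ m ∈ c.Ms, c.X m c.t ^ 2 = 1 := by
    intro m hm
    obtain ⟨hmN, hmX, -⟩ := c.Ms_X hm
    have hle := c.X_sq_le m c.t
    rw [hmX, c.X_t, one_mul] at hle
    have hge := c.Ms_N1_odd hm c.t_mem
    have hlo : -3 ≤ c.X m c.t := by nlinarith
    have hhi : c.X m c.t ≤ 3 := by nlinarith
    have hne3 : ¬ (c.X m c.t ^ 2 = 9) := fun h => by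
      have hp := c.X_par (r := m) (s := c.t) (by rw [h, hmX, c.X_t, one_mul])
      have hf : 9 * (16 * c.f m) = c.X m c.t * (16 * c.f c.t) := by
        rw [← c.X_f, ← c.X_f, mul_sum, mul_sum]
        refine sum_congr rfl fun u _ => ?_
        rw [← c.X_t, ← mul_assoc, ← mul_assoc, hp u]
      rw [c.f_t] at hf
      rcases (show c.X m c.t = 3 ∨ c.X m c.t = -3 by
        rcases sq_eq_sq_iff_eq_or_eq_neg.1 (show c.X m c.t ^ 2 = 3 ^ 2 by rw [h]; norm_num) with e | e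
        · exact Or.inl e
        · exact Or.inr e) with e | e <;> rw [e] at hf <;> omega
    have e := c.X_of_ne (show m ≠ c.t from fun e => c.t_notMem_Ms (e ▸ hm))
    rw [c.d_t, mul_one] at e
    rcases (c.Ms_X hm).2.2 with hdm | hdm <;> rw [hdm] at e <;>
      interval_cases hx : c.X m c.t <;> first | omega | norm_num at hne3 ⊢
  have hwM : ∀ m ∈ c.Ms, c.C m c.t = 0 := fun m hm => by
    have h := hMsW m hm
    have e := c.X_of_ne (show m ≠ c.t from fun e => c.t_notMem_Ms (e ▸ hm))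
    rw [c.d_t, mul_one] at e
    rcases sq_eq_one_iff.1 h with hx | hx <;> rcases (c.Ms_X hm).2.2 with hdm | hdm <;>
      rw [hdm, hx] at e <;> omega
  obtain ⟨m, hm⟩ := card_pos.1 (show 0 < c.Ms.card by omega)
  obtain ⟨hdv, -, -, hvX⟩ := c.N9 hv
  have hvt : v ≠ c.t := fun e => by rw [e, c.d_t] at hdv; omega
  have hvm2 : c.X v m ^ 2 = 1 := by rw [c.X_symm]; exact c.Ms_N9 hm hv
  have hvtX : c.X v c.t ^ 2 = 1 := by
    have h := c.X_par (r := v) (s := m) (by rw [hvm2, hvX, (c.Ms_X hm).2.1, one_mul]) c.t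
    rw [(c.Ms_X hm).2.1, one_mul] at h
    rw [h, mul_pow, hvm2, hMsW m hm, one_mul]
  have hwv : c.C v c.t * c.d v = 3 ∧ c.W v = -2 := by
    have e := c.X_of_ne hvt
    rw [c.d_t, mul_one] at e
    rcases sq_eq_one_iff.1 hvtX with hx | hx <;> rcases hdv with hdv | hdv <;>
      rw [hdv, hx] at e <;>
      first | omega | (rw [W, show c.C v c.t = 1 by omega, hdv]; norm_num; done) |
        (rw [W, show c.C v c.t = -1 by omega, hdv]; norm_num; done)
  have hrest := c.sum_W_rest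
  rw [hv9, sum_singleton, hwv.2, card_eq_zero.1 h4, sum_empty, card_empty, card_singleton] at hrest
  have hCd := c.C_d c.t
  rw [sum_congr rfl (g := fun u => c.C u c.t * c.d u) fun u _ => by rw [c.C_symm],
    c.sum_split, sum_eq_zero (s := c.N 0) fun u hu => by rw [(c.N0 hu).1, mul_zero],
    hv9, sum_singleton, hwv.1, card_eq_zero.1 h4, sum_empty, ← add_sum_erase _ _ c.t_mem,
    show c.C c.t c.t = 2 by rw [C, c.A_t, c.B_t]; rfl, c.d_t] at hCd
  set R := ((c.N 1).erase c.t).filter fun u => u ∉ c.Ms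
  have hsub : ∀ g : ι → ℤ, (∀ u ∈ c.Ms, g u = 0) →
      ∑ u ∈ (c.N 1).erase c.t, g u = ∑ u ∈ R, g u := fun g hg =>
    (sum_subset (filter_subset _ _) fun u hu hnu =>
      hg u (by_contra fun h => hnu (mem_filter.2 ⟨hu, h⟩))).symm
  have hRcard : (R.card : ℤ) = 6 - c.Ms.card := by
    have hMsub : c.Ms ⊆ (c.N 1).erase c.t := fun u hu =>
      mem_erase.2 ⟨fun e => c.t_notMem_Ms (e ▸ hu), (mem_filter.1 hu).1⟩
    rw [show R = (c.N 1).erase c.t \ c.Ms from (sdiff_eq_filter _ _).symm, card_sdiff_of_subset hMsub,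
      card_erase_of_mem c.t_mem, hn1]
    have := card_le_card hMsub
    rw [card_erase_of_mem c.t_mem, hn1] at this
    omega
  rw [hsub _ fun u hu => by rw [hwM u hu, zero_mul]] at hCd
  rw [hsub _ fun u hu => by rw [W, hwM u hu, zero_mul]] at hrest
  have hkey : ∑ u ∈ R, 2 * (c.C u c.t * c.d u) ≤ ∑ u ∈ R, (2 + c.W u) :=
    sum_le_sum fun u hu => by
      have hu1 : u ∈ c.N 1 := mem_of_mem_erase (mem_filter.1 hu).1
      rcases (c.N1 hu1).1 with hd | hd <;> rw [W, hd]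
      · nlinarith [mul_sub_one_nonneg (c.C u c.t - 1)]
      · nlinarith [mul_sub_one_nonneg (-(c.C u c.t) - 1)]
  rw [← mul_sum, sum_add_distrib, sum_const, nsmul_eq_mul] at hkey
  have h0 : 0 ≤ ∑ u ∈ c.N 0, (c.W u - 1) := sum_nonneg fun u hu => by linarith [c.W0 hu]
  push_cast at hrest
  linarith


include c in
theorem card_eq_sixteen : Fintype.card ι = 16 := by
  have h9 := c.N9_empty
  have hd := c.count_d
  have htr := c.count_trace
  have hz := c.count_zero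
  have hlt := c.Ms_lt
  have h3 := c.not_three h9
  have h2 := c.not_two h9
  rw [h9, card_empty] at hd htr hz
  have h4 : (c.N 4).card = 0 := by
    rcases Nat.lt_or_ge (c.N 4).card 2 with h | h
    · by_contra h0
      obtain ⟨m, hm⟩ := card_pos.1 (show 0 < c.Ms.card by omega)
      obtain ⟨a, ha⟩ := card_eq_one.1 (show (c.N 4).card = 1 by omega)
      have h5 := c.Ms_two h9 hm
      rw [ha, sum_singleton] at h5
      rcases (c.Ms_N4 hm (show a ∈ c.N 4 by rw [ha]; simp)).2 with e | e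
      · rw [e] at h5; norm_num at h5
      · rcases (c.Ms_X hm).2.2 with hdm | hdm <;>
          rcases (c.N4 (show a ∈ c.N 4 by rw [ha]; simp)).1 with hdu | hdu <;>
          rw [hdm, hdu] at e h5 <;> omega
    · omega
  have hc : (Fintype.card ι : ℤ) = ∑ _u : ι, 1 := by simp
  rw [c.sum_split, h9] at hc
  simp only [sum_const, nsmul_eq_mul, mul_one, card_empty, Nat.cast_zero] at hc
  omega

end Config

end CfsgLib.BlockSixteen
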