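import Cfsg.Agent.Lib.BlockSixteen.Klein
import Cfsg.Agent.Lib.Blocks.CoverPrincipal
import Cfsg.Agent.Lib.Blocks.ExtensionPrincipal
import Cfsg.Agent.Lib.Blocks.ContribBound
import Cfsg.Agent.Lib.CharDeep.GenChar
import Cfsg.Agent.Lib.Char.ThreeDegrees.Basic
import Cfsg.Agent.Lib.Fusion.Transfer

/-!
# Groups whose Sylow 2-subgroup has a four-group fixed by its normalizer
-/

set_option autoImplicit false
set_option maxHeartbeats 800000
set_option linter.style.haveILetI false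

namespace CfsgLib.BlockSixteen

open Cfsg CfsgLib.Blocks CfsgLib.Fusion.Transfer
open scoped Classical ComplexConjugate

universe u

variable {K : Type u} [Group K]

/-- An elementary Sylow subgroup `P₁ × P₂` of order 16 whose normalizer fixes `P₁` and moves the
involutions of `P₂` transitively. -/
structure Local (P P₁ P₂ : Subgroup K) : Prop where
  elem : ∀ x ∈ P, x * x = 1
  le₁ : P₁ ≤ P
  le₂ : P₂ ≤ P
  card : Nat.card P = 16
  card₁ : Nat.card P₁ = 4
  card₂ : Nat.card P₂ = 4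
  inf : P₁ ⊓ P₂ = ⊥
  fixed : ∀ n ∈ Subgroup.normalizer (P : Set K), ∀ x ∈ P₁, n * x * n⁻¹ = x
  stab₂ : ∀ n ∈ Subgroup.normalizer (P : Set K), ∀ x ∈ P₂, n * x * n⁻¹ ∈ P₂
  trans₂ : ∀ x ∈ P₂, x ≠ 1 → ∀ y ∈ P₂, y ≠ 1 →
    ∃ n ∈ Subgroup.normalizer (P : Set K), n * x * n⁻¹ = y
  odd : ¬ 2 ∣ P.index

namespace Local

variable {P P₁ P₂ : Subgroup K}

theorem comm (h : Local P P₁ P₂) : ∀ x ∈ P, ∀ y ∈ P, x * y = y * x := fun x hx y hy => by
  have e : ∀ z ∈ P, z⁻¹ = z := fun z hz => inv_eq_of_mul_eq_one_right (h.elem z hz)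
  rw [← e (x * y) (P.mul_mem hx hy), mul_inv_rev, e x hx, e y hy]

/-- The restriction to a subgroup containing the automizer. -/
theorem subgroupOf {G : Type u} [Group G] [Finite G] {Q Q₁ Q₂ : Subgroup G}
    (helem : ∀ x ∈ Q, x * x = 1) (hle₁ : Q₁ ≤ Q) (hle₂ : Q₂ ≤ Q) (hcard : Nat.card Q = 16)
    (hc₁ : Nat.card Q₁ = 4) (hc₂ : Nat.card Q₂ = 4) (hinf : Q₁ ⊓ Q₂ = ⊥) (hodd : ¬ 2 ∣ Q.index)
    (hstab₂ : ∀ n ∈ Subgroup.normalizer (Q : Set G), ∀ x ∈ Q₂, n * x * n⁻¹ ∈ Q₂)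
    {H : Subgroup G} (hQH : Q ≤ H)
    (hfix : ∀ n ∈ Subgroup.normalizer (Q : Set G), n ∈ H → ∀ x ∈ Q₁, n * x * n⁻¹ = x)
    (htrans : ∀ x ∈ Q₂, x ≠ 1 → ∀ y ∈ Q₂, y ≠ 1 →
      ∃ n ∈ Subgroup.normalizer (Q : Set G), n ∈ H ∧ n * x * n⁻¹ = y) :
    Local (Q.subgroupOf H) (Q₁.subgroupOf H) (Q₂.subgroupOf H) := by
  have hcardH : ∀ R : Subgroup G, R ≤ H → Nat.card (R.subgroupOf H) = Nat.card R := fun R hR =>
    Nat.card_congr (Subgroup.subgroupOfEquivOfLe hR).toEquiv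
  have hnorm : ∀ n : H, n ∈ Subgroup.normalizer ((Q.subgroupOf H : Subgroup H) : Set H) →
      (n : G) ∈ Subgroup.normalizer (Q : Set G) := fun n hn => by
    refine Subgroup.mem_normalizer_iff.2 fun a => ⟨fun ha => ?_, fun ha => ?_⟩
    · exact (Subgroup.mem_normalizer_iff.1 hn ⟨a, hQH ha⟩).1 ha
    · have ha' : a ∈ H := by
        simpa [mul_assoc] using H.mul_mem (H.mul_mem (H.inv_mem n.2) (hQH ha)) n.2
      exact (Subgroup.mem_normalizer_iff.1 hn ⟨a, ha'⟩).2 ha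
  refine ⟨fun x hx => Subtype.ext (helem _ hx), Subgroup.comap_mono hle₁, Subgroup.comap_mono hle₂,
    (hcardH Q hQH).trans hcard, (hcardH _ (hle₁.trans hQH)).trans hc₁,
    (hcardH _ (hle₂.trans hQH)).trans hc₂, ?_, fun n hn x hx => Subtype.ext (hfix _ (hnorm n hn) n.2 _ hx),
    fun n hn x hx => hstab₂ _ (hnorm n hn) _ hx, fun x hx hx1 y hy hy1 => ?_, ?_⟩
  · show Q₁.comap H.subtype ⊓ Q₂.comap H.subtype = ⊥
    rw [← Subgroup.comap_inf, hinf]
    exact (Subgroup.comap_subtype _ _).trans (Subgroup.subgroupOf_eq_bot.2 disjoint_bot_left)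
  · obtain ⟨n, hn, hnH, e⟩ := htrans _ hx (fun e => hx1 (Subtype.ext e)) _ hy
      (fun e => hy1 (Subtype.ext e))
    refine ⟨⟨n, hnH⟩, Subgroup.mem_normalizer_iff.2 fun a => ?_, Subtype.ext e⟩
    exact Subgroup.mem_normalizer_iff.1 hn (a : G)
  · exact fun hd => hodd (hd.trans (Dvd.intro _ (Subgroup.relIndex_mul_index hQH)))

variable [Fintype K]

/-- The decomposition of `P`. -/
noncomputable def prodEquiv (h : Local P P₁ P₂) : P₁ × P₂ ≃* P := by
  refine MulEquiv.ofBijective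
    (MonoidHom.mk' (fun ab : P₁ × P₂ => (⟨(ab.1 : K) * ab.2,
      P.mul_mem (h.le₁ ab.1.2) (h.le₂ ab.2.2)⟩ : P)) fun u v => Subtype.ext ?_) ⟨?_, ?_⟩
  · show (u.1 * v.1 : K) * (u.2 * v.2) = u.1 * u.2 * (v.1 * v.2)
    rw [mul_assoc, mul_assoc, ← mul_assoc (v.1 : K),
      h.comm _ (h.le₁ v.1.2) _ (h.le₂ u.2.2), mul_assoc]
  all_goals
    have hinj : Function.Injective (fun ab : P₁ × P₂ => (⟨(ab.1 : K) * ab.2,
        P.mul_mem (h.le₁ ab.1.2) (h.le₂ ab.2.2)⟩ : P)) := fun a b e => by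
      have e' : (a.1 : K) * a.2 = b.1 * b.2 := congrArg Subtype.val e
      have h1 : (b.1 : K)⁻¹ * a.1 = b.2 * (a.2 : K)⁻¹ := by
        rw [eq_mul_inv_iff_mul_eq, mul_assoc, e', inv_mul_cancel_left]
      have h2 : (b.1 : K)⁻¹ * a.1 ∈ P₁ ⊓ P₂ :=
        ⟨P₁.mul_mem (P₁.inv_mem b.1.2) a.1.2, h1 ▸ P₂.mul_mem b.2.2 (P₂.inv_mem a.2.2)⟩
      rw [h.inf, Subgroup.mem_bot] at h2
      exact Prod.ext (Subtype.ext (inv_mul_eq_one.1 h2).symm)
        (Subtype.ext (mul_inv_eq_one.1 (h1 ▸ h2)).symm)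
  · exact hinj
  · exact (hinj.bijective_of_nat_card_le (by rw [Nat.card_prod, h.card₁, h.card₂, h.card])).2

theorem prodEquiv_apply (h : Local P P₁ P₂) (a : P₁) (b : P₂) :
    ((h.prodEquiv (a, b) : P) : K) = (a : K) * b := rfl

/-- The kernel of the transfer onto `P₁`. -/
theorem exists_complement (h : Local P P₁ P₂) :
    ∃ N : Subgroup K, N.Normal ∧ N.index = 4 ∧ (∀ g : K, IsPRegular 2 g → g ∈ N) ∧
      N ⊓ P = P₂ ∧ ∀ g : K, ∃ u ∈ P₁, g * u⁻¹ ∈ N := by
  haveI : Fact (Nat.Prime 2) := ⟨Nat.prime_two⟩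
  letI : CommGroup P₁ :=
    { (inferInstance : Group P₁) with
      mul_comm := fun a b => Subtype.ext (h.comm _ (h.le₁ a.2) _ (h.le₁ b.2)) }
  set π : P →* P₁ := (MonoidHom.fst P₁ P₂).comp h.prodEquiv.symm.toMonoidHom with hπ
  have hπ_mul : ∀ (a : P₁) (b : P₂) (x : P), (x : K) = (a : K) * b → π x = a := by
    intro a b x e
    have e1 : x = h.prodEquiv (a, b) := Subtype.ext e
    rw [e1, hπ]
    simp
  let S : Sylow 2 K := (IsPGroup.of_card (n := 4) (show Nat.card P = 2 ^ 4 by rw [h.card]; rfl)).toSylow h.odd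
  have hS : (S : Subgroup K) = P := rfl
  have hcent : ∀ x ∈ P, x ∈ Subgroup.centralizer ((S : Subgroup K) : Set K) := fun x hx =>
    Subgroup.mem_centralizer_iff.2 fun y hy => h.comm y hy x hx
  have key : ∀ (x : P) (g : K) (hx : g⁻¹ * (x : K) * g ∈ P), π ⟨_, hx⟩ = π x := by
    intro x g hx
    obtain ⟨n, hn, he⟩ := burnside_central S (hcent _ x.2) (hcent _ hx) ⟨g⁻¹, by simp⟩
    obtain ⟨⟨a, b⟩, hab⟩ := h.prodEquiv.surjective x
    have hab' : (x : K) = (a : K) * b := (congrArg Subtype.val hab).symm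
    rw [hπ_mul a b x hab', hπ_mul a ⟨_, h.stab₂ n hn b b.2⟩ ⟨_, hx⟩ ?_]
    show g⁻¹ * (x : K) * g = (a : K) * (n * b * n⁻¹)
    rw [← he, hab']
    conv_rhs => rw [← h.fixed n hn a a.2]
    simp [mul_assoc]
  have hodd : Odd P.index := by
    rw [← Nat.not_even_iff_odd, even_iff_two_dvd]
    exact h.odd
  set τ : K →* P₁ := MonoidHom.transfer π with hτ
  have hτP : ∀ x : P, τ (x : K) = π x := fun x => by
    rw [hτ, transfer_eq_pow_of_invariant π key x]
    obtain ⟨k, hk⟩ := hodd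
    have h2 : π x ^ 2 = 1 := Subtype.ext (by rw [pow_two]; exact h.elem _ (h.le₁ (π x).2))
    rw [hk, pow_succ, pow_mul, h2, one_pow, one_mul]
  have hτ1 : ∀ a : P₁, τ (a : K) = a := fun a => by
    rw [hτP ⟨a, h.le₁ a.2⟩, hπ_mul a 1 ⟨a, h.le₁ a.2⟩ (by simp)]
  refine ⟨τ.ker, inferInstance, ?_, fun g hg => ?_, ?_, fun g => ⟨τ g, (τ g).2, ?_⟩⟩
  · rw [Subgroup.index_ker, MonoidHom.range_eq_top.2 (fun a => ⟨_, hτ1 a⟩), Subgroup.card_top, h.card₁]
  · rw [MonoidHom.mem_ker]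
    have h2 : τ g ^ 2 = 1 := Subtype.ext (by rw [pow_two]; exact h.elem _ (h.le₁ (τ g).2))
    have h3 := orderOf_dvd_of_pow_eq_one h2
    have h4 := orderOf_map_dvd τ g
    refine orderOf_eq_one_iff.1 (Nat.eq_one_of_dvd_coprimes ?_ h3 h4)
    exact (Nat.Prime.coprime_iff_not_dvd Nat.prime_two).2 hg
  · ext x
    rw [Subgroup.mem_inf, MonoidHom.mem_ker]
    constructor
    · rintro ⟨hx1, hx⟩
      obtain ⟨⟨a, b⟩, hab⟩ := h.prodEquiv.surjective ⟨x, hx⟩
      have hab' : x = (a : K) * b := (congrArg Subtype.val hab).symm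
      rw [hτP ⟨x, hx⟩, hπ_mul a b ⟨x, hx⟩ hab'] at hx1
      rw [hab', hx1, OneMemClass.coe_one, one_mul]
      exact b.2
    · intro hx
      refine ⟨?_, h.le₂ hx⟩
      rw [hτP ⟨x, h.le₂ hx⟩, hπ_mul 1 ⟨x, hx⟩ ⟨x, h.le₂ hx⟩ (by simp)]
  · rw [MonoidHom.mem_ker, map_mul, map_inv, hτ1, mul_inv_cancel]

/-- The four-group inner products for the complement. -/
theorem complement_gram (h : Local P P₁ P₂) {N : Subgroup K} [N.Normal] (hidx : N.index = 4)
    (hNP : N ⊓ P = P₂) (hsplit : ∀ g : K, ∃ u ∈ P₁, g * u⁻¹ ∈ N) {M : Ideal AlgInt}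
    (hM : IsPModular 2 M) :
    (∃ a : IrrCharacter N → ℤ, a (trivChar N) = 1 ∧ (∀ θ ∈ principalBlock M N, a θ * a θ = 1) ∧
      ∀ θ ∈ principalBlock M N, ∀ θ' ∈ principalBlock M N,
        4 * ∑ g : N with IsPRegular 2 g, (θ : N → ℂ) g * conj ((θ' : N → ℂ) g)
          = (Nat.card N : ℂ) * (4 * (if θ = θ' then 1 else 0) - (a θ : ℂ) * (a θ' : ℂ)))
    ∧ blockRank 2 (principalBlock M N) = 3 := by
  haveI : Fact (Nat.Prime 2) := ⟨Nat.prime_two⟩
  have hP₂N : P₂ ≤ N := hNP ▸ inf_le_left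
  have hc : Nat.card (P₂.subgroupOf N) = 4 :=
    (Nat.card_congr (Subgroup.subgroupOfEquivOfLe hP₂N).toEquiv).trans h.card₂
  have hi : ¬ 2 ∣ (P₂.subgroupOf N).index := by
    have e1 := Subgroup.card_mul_index (P₂.subgroupOf N)
    have e2 := N.card_mul_index
    have e3 := P.card_mul_index
    rw [hidx, ← e1, hc] at e2
    rw [h.card] at e3
    have : (P₂.subgroupOf N).index = P.index := by omega
    rw [this]
    exact h.odd
  let S : Sylow 2 N := (IsPGroup.of_card (n := 2) (show Nat.card (P₂.subgroupOf N) = 2 ^ 2 by rw [hc]; rfl)).toSylow hi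
  have hexp : ∀ x : (S : Subgroup N), x * x = 1 := fun x =>
    Subtype.ext (Subtype.ext (h.elem _ (h.le₂ x.2)))
  have hone : ∀ s t : N, orderOf s = 2 → orderOf t = 2 → IsConj s t := by
    have hto : ∀ s : N, orderOf s = 2 → ∃ v : N, (v : K) ∈ P₂ ∧ v ≠ 1 ∧ IsConj s v := fun s hs => by
      have hp : IsPGroup 2 (Subgroup.zpowers s) :=
        IsPGroup.of_card (n := 1) (by rw [Nat.card_zpowers, hs, pow_one])
      obtain ⟨T, hT⟩ := hp.exists_le_sylow
      obtain ⟨g, hg⟩ := MulAction.exists_smul_eq N T S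
      refine ⟨g * s * g⁻¹, ?_, fun e => ?_, isConj_iff.2 ⟨g, rfl⟩⟩
      · have h1 : g * s * g⁻¹ ∈ ((g • T : Sylow 2 N) : Subgroup N) := by
          rw [Sylow.coe_subgroup_smul]
          exact Subgroup.smul_mem_pointwise_smul _ _ _ (hT (Subgroup.mem_zpowers s))
        rw [hg] at h1
        exact h1
      · rw [conj_eq_one_iff.1 e, orderOf_one] at hs
        exact absurd hs (by norm_num)
    intro s t hs ht
    obtain ⟨v, hv, hv1, hsv⟩ := hto s hs
    obtain ⟨w, hw, hw1, htw⟩ := hto t ht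
    obtain ⟨n, hn, e⟩ := h.trans₂ _ hv (fun e => hv1 (Subtype.ext e)) _ hw (fun e => hw1 (Subtype.ext e))
    obtain ⟨u, hu, hnu⟩ := hsplit n
    refine hsv.trans (IsConj.trans (isConj_iff.2 ⟨⟨n * u⁻¹, hnu⟩, Subtype.ext ?_⟩) htw.symm)
    show n * u⁻¹ * (v : K) * (n * u⁻¹)⁻¹ = (w : K)
    rw [mul_inv_rev, inv_inv, mul_assoc n, h.comm _ (P.inv_mem (h.le₁ hu)) _ (h.le₂ hv), ← e]
    simp [mul_assoc]
  exact ⟨FourGroup.four_group_gram hM S hc hexp hone, FourGroup.blockRank_eq_three hM S hc hexp hone⟩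

/-- The regular inner products of the principal block in integral coordinates. -/
theorem exists_coord (h : Local P P₁ P₂) {M : Ideal AlgInt} (hM : IsPModular 2 M) :
    ∃ (N : Subgroup K) (S : Finset (IrrCharacter N)) (t : IrrCharacter N)
      (a : IrrCharacter N → ℤ) (m : IrrCharacter K → IrrCharacter N → ℤ),
      t ∈ S ∧ a t = 1 ∧ (∀ i ∈ S, a i * a i = 1) ∧
      (∀ i, m (trivChar K) i = if i = t then 1 else 0) ∧
      ∀ ψ ∈ principalBlock M K, ∀ ψ' ∈ principalBlock M K,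
        16 * ∑ g : K with IsPRegular 2 g, (ψ : K → ℂ) g * conj ((ψ' : K → ℂ) g)
          = (Nat.card K : ℂ) * ((4 * ∑ i ∈ S, m ψ i * m ψ' i
              - (∑ i ∈ S, a i * m ψ i) * (∑ i ∈ S, a i * m ψ' i) : ℤ) : ℂ) := by
  obtain ⟨N, hN, hidx, hreg, hNP, hsplit⟩ := h.exists_complement
  haveI := hN
  obtain ⟨⟨a, ha1, ha2, ha⟩, -⟩ := h.complement_gram hidx hNP hsplit hM
  have hm : ∀ (ψ : IrrCharacter K) (θ : IrrCharacter N), ∃ z : ℤ,
      classInner (fun g : N => (ψ : K → ℂ) g) (θ : N → ℂ) = (z : ℂ) := fun ψ θ => by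
    obtain ⟨n, hn⟩ := Char.IsCharacter.classInner_nat
      (Char.IsCharacter.restrict (Char.isCharacter_irr ψ) N) (Char.isCharacter_irr θ)
    exact ⟨n, by rw [hn]; simp⟩
  choose m hm using hm
  set S := (principalBlock M N).toFinset
  refine ⟨N, S, trivChar N, a, m, Set.mem_toFinset.2 (trivChar_mem_principalBlock hM), ha1,
    fun i hi => ha2 i (Set.mem_toFinset.1 hi), fun i => ?_, fun ψ hψ ψ' hψ' => ?_⟩
  · apply Int.cast_injective (α := ℂ)
    rw [← hm, show (fun g : N => (trivChar K : K → ℂ) g) = (trivChar N : N → ℂ) from rfl,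
      Char.classInner_irrCharacter]
    by_cases e : i = trivChar N
    · rw [if_pos e, if_pos e.symm, Int.cast_one]
    · rw [if_neg e, if_neg (Ne.symm e), Int.cast_zero]
  have hexp : ∀ φ ∈ principalBlock M K, ∀ g : N,
      (φ : K → ℂ) g = ∑ i ∈ S, (m φ i : ℂ) * (i : N → ℂ) g := by
    intro φ hφ g
    have e := congrFun (Char.IsClassFunction.eq_sum_irr (Char.IsCharacter.isClassFunction
      (Char.IsCharacter.restrict (Char.isCharacter_irr φ) N))) g
    simp only [Finset.sum_apply, Pi.smul_apply, smul_eq_mul, hm] at e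
    rw [e]
    refine (Finset.sum_subset (Finset.subset_univ _) fun i _ hi => ?_).symm
    by_contra hne
    refine hi (Set.mem_toFinset.2 (mem_principalBlock_of_over hM (fun h0 => hne ?_) hφ))
    rw [← hm, h0, zero_mul]
  have hsum : ∑ g : K with IsPRegular 2 g, (ψ : K → ℂ) g * conj ((ψ' : K → ℂ) g)
      = ∑ g : N with IsPRegular 2 g, (ψ : K → ℂ) g * conj ((ψ' : K → ℂ) g) := by
    refine (Finset.sum_bij (fun (g : N) _ => (g : K)) ?_ ?_ ?_ fun _ _ => rfl).symm
    · intro g hg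
      refine Finset.mem_filter.2 ⟨Finset.mem_univ _, ?_⟩
      rw [IsPRegular, Subgroup.orderOf_coe]
      exact (Finset.mem_filter.1 hg).2
    · exact fun _ _ _ _ e => Subtype.ext e
    · intro g hg
      have hg' := (Finset.mem_filter.1 hg).2
      refine ⟨⟨g, hreg g hg'⟩, Finset.mem_filter.2 ⟨Finset.mem_univ _, ?_⟩, rfl⟩
      rw [IsPRegular, Subgroup.orderOf_mk]
      exact hg'
  rw [hsum, Finset.sum_congr rfl fun g _ => by rw [hexp ψ hψ g, hexp ψ' hψ' g, map_sum, Finset.sum_mul_sum],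
    Finset.sum_comm]
  rw [show ((4 * ∑ i ∈ S, m ψ i * m ψ' i
      - (∑ i ∈ S, a i * m ψ i) * (∑ i ∈ S, a i * m ψ' i) : ℤ) : ℂ)
      = ∑ i ∈ S, ∑ j ∈ S, (m ψ i : ℂ) * (m ψ' j : ℂ) * (4 * (if i = j then 1 else 0) - (a i : ℂ) * (a j : ℂ)) by
    push_cast
    rw [Finset.sum_mul_sum, Finset.mul_sum, ← Finset.sum_sub_distrib]
    refine Finset.sum_congr rfl fun i hi => ?_
    rw [show 4 * ((m ψ i : ℂ) * (m ψ' i : ℂ)) = ∑ j ∈ S, (m ψ i : ℂ) * (m ψ' j : ℂ) * (4 * (if i = j then 1 else 0)) from ?_,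
      ← Finset.sum_sub_distrib]
    · exact Finset.sum_congr rfl fun j _ => by ring
    · rw [Finset.sum_eq_single_of_mem i hi fun j _ hj => by rw [if_neg (Ne.symm hj)]; ring, if_pos rfl]
      ring,
    Finset.mul_sum, Finset.mul_sum]
  refine Finset.sum_congr rfl fun i hi => ?_
  rw [Finset.sum_comm, Finset.mul_sum, Finset.mul_sum]
  refine Finset.sum_congr rfl fun j hj => ?_
  simp only [map_mul, map_intCast]
  rw [Finset.sum_congr rfl (g := fun g : N => ((m ψ i : ℂ) * (m ψ' j : ℂ)) *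
      ((i : N → ℂ) g * conj ((j : N → ℂ) g))) fun g _ => by ring, ← Finset.mul_sum]
  have hK : (Nat.card K : ℂ) = (Nat.card N : ℂ) * 4 := by
    rw [← N.card_mul_index, hidx]; push_cast; ring
  rw [hK]
  linear_combination (4 * ((m ψ i : ℂ) * (m ψ' j : ℂ))) *
    ha i (Set.mem_toFinset.1 hi) j (Set.mem_toFinset.1 hj)

/-- With `P₁` central the principal block has rank three. -/
theorem blockRank_central (h : Local P P₁ P₂) (hZ : P₁ ≤ Subgroup.center K) {M : Ideal AlgInt}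
    (hM : IsPModular 2 M) : blockRank 2 (principalBlock M K) = 3 := by
  haveI : Fact (Nat.Prime 2) := ⟨Nat.prime_two⟩
  obtain ⟨N, hN, hidx, hreg, hNP, hsplit⟩ := h.exists_complement
  haveI := hN
  obtain ⟨-, h3⟩ := h.complement_gram hidx hNP hsplit hM
  -- restrictions are irreducible
  have hirr : ∀ ψ : IrrCharacter K, IsIrrCharacter N (fun g : N => (ψ : K → ℂ) g) := by
    intro ψ
    have hchar := Char.IsCharacter.restrict (Char.isCharacter_irr ψ) N
    refine CharDeep.GenChar.isIrrCharacter_of_norm_one (Char.IsCharacter.isGeneralizedCharacter hchar) ?_ ?_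
    · have hK : ∀ u ∈ P₁, ∀ g : K, (ψ : K → ℂ) (g * u) * conj ((ψ : K → ℂ) (g * u))
          = (ψ : K → ℂ) g * conj ((ψ : K → ℂ) g) := fun u hu g => by
        obtain ⟨c, hc, -⟩ := CfsgLib.CharDeep.CentralTrick.exists_scalar_center ψ.2 (hZ hu)
        have h2 : c ^ 2 = 1 := by
          have e1 := hc u
          have e2 := hc 1
          rw [h.elem u (h.le₁ hu)] at e1
          rw [one_mul] at e2
          rw [e2, ← mul_assoc] at e1
          exact mul_right_cancel₀ (irr_one_ne_zero ψ) (by rw [one_mul, sq]; exact e1.symm)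
        rw [hc, map_mul]
        rcases sq_eq_one_iff.1 h2 with e | e <;> rw [e] <;> simp
      have hsum : ∑ g : K, (ψ : K → ℂ) g * conj ((ψ : K → ℂ) g)
          = 4 * ∑ g : N, (ψ : K → ℂ) g * conj ((ψ : K → ℂ) g) := by
        let F : N × P₁ → K := fun x => (x.1 : K) * x.2
        have hF : Function.Bijective F := by
          have hsur : Function.Surjective F := fun g => by
            obtain ⟨u, hu, hg⟩ := hsplit g
            exact ⟨(⟨_, hg⟩, ⟨u, hu⟩), inv_mul_cancel_right g u⟩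
          refine (Fintype.bijective_iff_surjective_and_card F).2 ⟨hsur, ?_⟩
          rw [← Nat.card_eq_fintype_card, ← Nat.card_eq_fintype_card, Nat.card_prod, h.card₁,
            ← N.card_mul_index, hidx]
        rw [← hF.sum_comp, Fintype.sum_prod_type, Finset.mul_sum]
        refine Finset.sum_congr rfl fun g _ => ?_
        rw [Finset.sum_congr rfl fun (u : P₁) _ => hK (u : K) u.2 g, Finset.sum_const, Finset.card_univ,
          ← Nat.card_eq_fintype_card, h.card₁, nsmul_eq_mul]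
        norm_num
      have h1 := Char.classInner_irr_self ψ.2
      rw [Cfsg.classInner] at h1 ⊢
      rw [hsum, ← N.card_mul_index, hidx] at h1
      push_cast at h1
      rw [mul_inv] at h1
      linear_combination h1
    · show 0 < ((ψ : K → ℂ) ((1 : N) : K)).re
      rw [OneMemClass.coe_one, irr_one_eq, Complex.natCast_re]
      exact_mod_cast charDegree_pos ψ
  let res : IrrCharacter K → IrrCharacter N := fun ψ => ⟨_, hirr ψ⟩
  have hne : ∀ ψ : IrrCharacter K, classInner (fun g : N => (ψ : K → ℂ) g) (res ψ : N → ℂ) ≠ 0 := fun ψ => by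
    rw [show classInner (fun g : N => (ψ : K → ℂ) g) (res ψ : N → ℂ)
      = classInner (res ψ : N → ℂ) (res ψ : N → ℂ) from rfl, Char.classInner_irr_self (res ψ).2]
    exact one_ne_zero
  have hsumreg : ∀ ψ : IrrCharacter K, ∑ g : K with IsPRegular 2 g, (ψ : K → ℂ) g
      = ∑ g : N with IsPRegular 2 g, (res ψ : N → ℂ) g := by
    intro ψ
    refine (Finset.sum_bij (fun (g : N) _ => (g : K)) ?_ ?_ ?_ fun _ _ => rfl).symm
    · intro g hg
      refine Finset.mem_filter.2 ⟨Finset.mem_univ _, ?_⟩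
      rw [IsPRegular, Subgroup.orderOf_coe]
      exact (Finset.mem_filter.1 hg).2
    · exact fun _ _ _ _ e => Subtype.ext e
    · intro g hg
      have hg' := (Finset.mem_filter.1 hg).2
      refine ⟨⟨g, hreg g hg'⟩, Finset.mem_filter.2 ⟨Finset.mem_univ _, ?_⟩, rfl⟩
      rw [IsPRegular, Subgroup.orderOf_mk]
      exact hg'
  let E : (N → ℂ) →ₗ[ℂ] (K → ℂ) :=
    { toFun := fun f g => if hg : g ∈ N then f ⟨g, hg⟩ else 0
      map_add' := fun f f' => funext fun g => by by_cases hg : g ∈ N <;> simp [hg]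
      map_smul' := fun c f => funext fun g => by by_cases hg : g ∈ N <;> simp [hg] }
  have hEinj : Function.Injective E := fun f f' e => funext fun g => by
    have := congrFun e (g : K)
    simpa [E, g.2] using this
  have hE : ∀ ψ : IrrCharacter K, E (pRegularPart 2 (res ψ : N → ℂ)) = pRegularPart 2 (ψ : K → ℂ) := by
    intro ψ
    funext g
    rw [pRegularPart_apply]
    by_cases hg : g ∈ N
    · simp only [E, LinearMap.coe_mk, AddHom.coe_mk, dif_pos hg, pRegularPart_apply]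
      exact if_congr (by rw [IsPRegular, IsPRegular, Subgroup.orderOf_mk]) rfl rfl
    · simp only [E, LinearMap.coe_mk, AddHom.coe_mk, dif_neg hg]
      rw [if_neg fun hr => hg (hreg g hr)]
  have himg : (fun χ : IrrCharacter K => pRegularPart 2 (χ : K → ℂ)) '' principalBlock M K
      = E '' ((fun θ : IrrCharacter N => pRegularPart 2 (θ : N → ℂ)) '' principalBlock M N) := by
    ext f
    constructor
    · rintro ⟨ψ, hψ, rfl⟩
      exact ⟨_, ⟨res ψ, mem_principalBlock_of_over hM (hne ψ) hψ, rfl⟩, hE ψ⟩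
    · rintro ⟨_, ⟨θ, hθ, rfl⟩, rfl⟩
      obtain ⟨χ, -, -, hχ, hχθ, -⟩ := Char.ThreeDegrees.exists_over N θ.2
      have e : res ⟨χ, hχ⟩ = θ := by
        by_contra hne'
        exact hχθ (Char.classInner_irr_ne (hirr ⟨χ, hχ⟩) θ.2 fun e => hne' (Subtype.ext e))
      refine ⟨⟨χ, hχ⟩, ExtensionPrincipal.mem_principal_of_sum_ne hM ?_, ?_⟩
      · rw [hsumreg, e]
        exact ExtensionPrincipal.sum_regular_ne_zero hM hθ
      · rw [← e]
        exact (hE ⟨χ, hχ⟩).symm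
  rw [blockRank, himg, ← Submodule.map_span]
  exact ((Submodule.equivMapOfInjective E hEinj _).finrank_eq).symm.trans h3

end Local

end CfsgLib.BlockSixteen
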