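import Cfsg.Agent.Lib.BlockSixteen.Shape
import Cfsg.Agent.Lib.BlockSixteen.Local
import Cfsg.Agent.Lib.BrouePuig.Isometry.FreeFrame
import Cfsg.Agent.Lib.BrouePuig.Watanabe
import Cfsg.Agent.Lib.BrauerPairs.Principal

/-!
# The four sections of a principal block with inertial quotient 3 × 3
-/

set_option autoImplicit false
set_option maxHeartbeats 800000
set_option linter.style.haveILetI false

namespace CfsgLib.BlockSixteen

open Cfsg CfsgLib.Blocks CfsgLib.BrauerPairs CfsgLib.BrouePuig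
open scoped Classical ComplexConjugate

universe u

variable {G : Type u} [Group G] [Fintype G] {M : Ideal AlgInt}

/-- The principal block of the centralizer of `Q`. -/
abbrev pb (M : Ideal AlgInt) (Q : Subgroup G) :
    Set (IrrCharacter (Subgroup.centralizer (Q : Set G))) :=
  principalBlock M (Subgroup.centralizer (Q : Set G))

/-- The contribution of the principal subsection of `w` to a pair of characters. -/
noncomputable def sec (M : Ideal AlgInt) (w : G) (r s : IrrCharacter G) : ℂ :=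
  secInner 2 r s (⟨w, pb M (Subgroup.zpowers w)⟩ : BElem G)
    * (Nat.card (Subgroup.centralizer ({w} : Set G)) : ℂ)⁻¹

theorem card_cenZ (w : G) :
    Nat.card (cenZ w) = Nat.card (Subgroup.centralizer ({w} : Set G)) := by rw [cenZ_eq]

theorem pb_isElemOf [Fact (Nat.Prime 2)] (hM : IsPModular 2 M) {w : G} (hw : ∃ k, orderOf w = 2 ^ k) :
    IsElemOf 2 M (principalBlock M G) (⟨w, pb M (Subgroup.zpowers w)⟩ : BElem G) := by
  obtain ⟨k, hk⟩ := hw
  exact (isBrauerPairOf_principal_iff hM (IsPGroup.of_card (n := k) (by rw [Nat.card_zpowers, hk]))).2 rfl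

theorem secPart_triv (hM : IsPModular 2 M) (w : G) (c : cenZ w) :
    secPart w (cenZ w) (pb M (Subgroup.zpowers w)) (trivChar G) c = 1 := by
  obtain ⟨z, hzx, hz⟩ := center_zpowers_mem w
  rw [secPart_eq_sum_mult hzx hz, Finset.sum_eq_single (trivChar (cenZ w))]
  · rw [blockInd_of_mem (trivChar_mem_principalBlock hM), resMult,
      show (fun k : cenZ w => (trivChar G : G → ℂ) k) = (trivChar (cenZ w) : cenZ w → ℂ) from rfl,
      Char.classInner_irr_self (trivChar (cenZ w)).2, centScalar]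
    simp
  · intro ψ _ hne
    rw [resMult, show (fun k : cenZ w => (trivChar G : G → ℂ) k) = (trivChar (cenZ w) : cenZ w → ℂ) from rfl,
      Char.classInner_irr_ne (trivChar (cenZ w)).2 ψ.2 fun e => hne (Subtype.ext e.symm)]
    ring
  · exact fun h => absurd (Finset.mem_univ _) h

theorem secPart_one [Fact (Nat.Prime 2)] (hM : IsPModular 2 M) {χ : IrrCharacter G}
    (hχ : χ ∈ principalBlock M G) (c : cenZ (1 : G)) (hc : ¬ 2 ∣ orderOf c) :
    secPart (1 : G) (cenZ (1 : G)) (pb M (Subgroup.zpowers (1 : G))) χ c = (χ : G → ℂ) c := by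
  have h1 : ∃ k : ℕ, orderOf (1 : G) = 2 ^ k := ⟨0, by simp⟩
  have hp : IsPGroup 2 (Subgroup.zpowers (1 : G)) :=
    IsPGroup.of_card (n := 0) (by rw [Nat.card_zpowers]; simp)
  have e1 := star_eq (hM := hM) (fun _ => (1 : ℂ)) χ h1 c hc
  rw [one_mul, CfsgLib.BrouePuig.star_one, Finset.sum_eq_single (pb M (Subgroup.zpowers (1 : G)))] at e1
  · rw [e1, one_mul]
  · intro b hb hne
    rw [secPart_eq_zero_of_not_elem hM hχ isPBlock_principalBlock (a := ⟨1, b⟩)
      (mem_elems.2 ⟨h1, mem_blockSet.1 hb⟩)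
      (fun hel => hne ((isBrauerPairOf_principal_iff hM hp).1 hel)) hc, mul_zero]
  · exact fun h => absurd (mem_blockSet.2 isPBlock_principalBlock) h

/-- The contributions at the identity are sums over the regular elements. -/
theorem sec_one [Fact (Nat.Prime 2)] (hM : IsPModular 2 M) {r s : IrrCharacter G}
    (hr : r ∈ principalBlock M G) (hs : s ∈ principalBlock M G) :
    sec M (1 : G) r s = (∑ g : G with IsPRegular 2 g, (r : G → ℂ) g * conj ((s : G → ℂ) g))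
      * (Nat.card G : ℂ)⁻¹ := by
  have htop : Subgroup.centralizer ({(1 : G)} : Set G) = ⊤ := eq_top_iff.2 fun x _ => by
    rw [Subgroup.mem_centralizer_singleton_iff, mul_one, one_mul]
  rw [sec, htop, Subgroup.card_top, secInner]
  congr 1
  have hmem : ∀ g : G, g ∈ cenZ (1 : G) := fun g => by
    rw [cenZ_eq, htop]; exact Subgroup.mem_top g
  refine Finset.sum_bij (fun c _ => (c : G)) ?_ ?_ ?_ ?_
  · intro c hc
    refine Finset.mem_filter.2 ⟨Finset.mem_univ _, ?_⟩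
    rw [IsPRegular, Subgroup.orderOf_coe]
    exact (Finset.mem_filter.1 hc).2
  · exact fun _ _ _ _ e => Subtype.ext e
  · intro g hg
    refine ⟨⟨g, hmem g⟩, Finset.mem_filter.2 ⟨Finset.mem_univ _, ?_⟩, rfl⟩
    rw [IsPRegular, Subgroup.orderOf_mk]
    exact (Finset.mem_filter.1 hg).2
  · intro c hc
    rw [secPart_one hM hr c (Finset.mem_filter.1 hc).2, secPart_one hM hs c (Finset.mem_filter.1 hc).2]

theorem sec_eq_zero [Fact (Nat.Prime 2)] (hM : IsPModular 2 M) {w : G} (hw : ∃ k, orderOf w = 2 ^ k)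
    (r : IrrCharacter G) {s : IrrCharacter G} (hs : s ∉ principalBlock M G) : sec M w r s = 0 := by
  have ha := pb_isElemOf hM hw
  rw [sec, secInner, Finset.sum_eq_zero, zero_mul]
  intro c hc
  rw [secPart_eq_zero_of_notMem hM (cenZ_eq w) hw ((isBrauerPairOf_iff_induced hM ha.1.1 ha.1.2).1 ha)
    hs (Finset.mem_filter.1 hc).2, map_zero, mul_zero]

theorem sum_sec [Fact (Nat.Prime 2)] (hM : IsPModular 2 M) {w : G} (hw : ∃ k, orderOf w = 2 ^ k) :
    ∑ χ ∈ (principalBlock M G).toFinset, sec M w χ χ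
      = (blockRank 2 (pb M (Subgroup.zpowers w)) : ℂ) := by
  simp only [sec, ← Finset.sum_mul]
  rw [sum_secInner hM (pb_isElemOf hM hw), card_cenZ, mul_comm (Nat.card _ : ℂ), mul_assoc,
    mul_inv_cancel₀ (Nat.cast_ne_zero.2 Nat.card_pos.ne'), mul_one]

variable {P P₁ P₂ : Subgroup G}

theorem Shape.orderOf_pow (h : Shape P P₁ P₂) {w : G} (hw : w ∈ P) : ∃ k, orderOf w = 2 ^ k := by
  obtain ⟨k, -, hk⟩ := (Nat.dvd_prime_pow Nat.prime_two).1
    (show orderOf w ∣ 2 ^ 1 from orderOf_dvd_of_pow_eq_one (by rw [pow_one, pow_two]; exact h.elem w hw))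
  exact ⟨k, hk⟩

/-- The automizer in the centralizer of a point of `P₁`. -/
theorem Shape.local_centralizer (h : Shape P P₁ P₂) (hodd : ¬ 2 ∣ P.index) {a : G} (ha : a ∈ P₁)
    (ha1 : a ≠ 1) :
    Local (P.subgroupOf (cenZ a)) (P₁.subgroupOf (cenZ a)) (P₂.subgroupOf (cenZ a)) := by
  refine Local.subgroupOf h.elem h.le₁ h.le₂ h.card h.card₁ h.card₂ h.inf hodd h.stab₂
    (le_centralizer_of_abelian h.comm (Subgroup.zpowers_le.2 (h.le₁ ha))) (fun n hn hnH => ?_)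
    fun x hx hx1 y hy hy1 => ?_
  · refine h.fix₁ n hn a ha ha1 (mul_inv_eq_iff_eq_mul.2 ?_)
    exact mem_cenZ.1 hnH
  · obtain ⟨n, hn, hfix, e⟩ := h.trans₂ x hx hx1 y hy hy1
    exact ⟨n, hn, mem_cenZ.2 (mul_inv_eq_iff_eq_mul.1 (hfix a ha)), e⟩

theorem isMaximal_of_odd [Fact (Nat.Prime 2)] (hM : IsPModular 2 M) (hP : IsPGroup 2 P)
    (hodd : ¬ 2 ∣ P.index) : IsMaximalBrauerPair 2 M (principalBlock M G) P (pb M P) :=
  isMaximal_principal hM (hP.toSylow hodd)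

theorem Shape.isPGroup (h : Shape P P₁ P₂) : IsPGroup 2 P :=
  IsPGroup.of_card (n := 4) (by rw [h.card]; rfl)

theorem Shape.hmax [Fact (Nat.Prime 2)] (h : Shape P P₁ P₂) (hodd : ¬ 2 ∣ P.index)
    (hM : IsPModular 2 M) : IsMaximalBrauerPair 2 M (principalBlock M G) P (pb M P) :=
  isMaximal_of_odd hM h.isPGroup hodd

theorem mem_pairStab_pb (hM : IsPModular 2 M) {n : G} :
    n ∈ pairStab P (pb M P) ↔ n ∈ Subgroup.normalizer (P : Set G) := by
  rw [mem_pairStab]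
  exact ⟨fun h => h.1, fun h => ⟨h, stabilizes_principal hM h⟩⟩

theorem bel_eq [Fact (Nat.Prime 2)] (hM : IsPModular 2 M)
    (hP : IsBrauerPair 2 M P (pb M P)) (w : P) :
    bel hM hP w = (⟨(w : G), pb M (Subgroup.zpowers (w : G))⟩ : BElem G) :=
  (eq_bel hM hP (below_principal hM hP.1 (Subgroup.zpowers_le.2 w.2)) w rfl).symm

/-- An orbit of the stabilizer contributes the contribution of its representative. -/
theorem sum_orbit [Fact (Nat.Prime 2)] {e : Set (IrrCharacter (Subgroup.centralizer (P : Set G)))}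
    (r₀ : P) (O : Finset P) (hO : ∀ w, w ∈ O ↔ ∃ t ∈ pairStab P e, t * (r₀ : G) * t⁻¹ = (w : G))
    {F : P → ℂ} (hF : ∀ w ∈ O, F w = F r₀) :
    ∑ w ∈ O, wt P e w * F w
      = F r₀ * (Nat.card (Subgroup.centralizer ({(r₀ : G)} : Set G)) : ℂ)⁻¹ := by
  set T := pairStab P e
  have hconst : ∀ w ∈ O, Nat.card (T ⊓ Subgroup.centralizer ({(w : G)} : Set G) : Subgroup G)
        = Nat.card (T ⊓ Subgroup.centralizer ({(r₀ : G)} : Set G) : Subgroup G) ∧
      Nat.card (Subgroup.centralizer ({(w : G)} : Set G))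
        = Nat.card (Subgroup.centralizer ({(r₀ : G)} : Set G)) := by
    intro w hw
    obtain ⟨t, ht, e⟩ := (hO w).1 hw
    rw [← e]
    exact ⟨card_inf_centralizer_conj ht _, card_centralizer_conj' _ _⟩
  have hcount : Nat.card T
      = O.card * Nat.card (T ⊓ Subgroup.centralizer ({(r₀ : G)} : Set G) : Subgroup G) := by
    let f : T → O := fun t => ⟨⟨(t : G) * (r₀ : G) * (t : G)⁻¹,
      (Subgroup.mem_normalizer_iff.1 (pairStab_le_normalizer e t.2) _).1 r₀.2⟩,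
        (hO _).2 ⟨t, t.2, rfl⟩⟩
    rw [Nat.card_eq_fintype_card, ← Finset.card_univ,
      Finset.card_eq_sum_card_fiberwise (f := f) (t := Finset.univ) fun _ _ => Finset.mem_univ _,
      Finset.sum_congr rfl (g := fun _ => Nat.card (T ⊓ Subgroup.centralizer ({(r₀ : G)} : Set G) : Subgroup G))
        fun w _ => ?_, Finset.sum_const, Finset.card_univ, Fintype.card_coe, smul_eq_mul]
    obtain ⟨t₀, ht₀, e₀⟩ := (hO _).1 w.2
    rw [Nat.card_eq_fintype_card, ← Finset.card_univ]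
    refine Finset.card_bij (fun t _ => ⟨t₀⁻¹ * (t : G), ?_⟩) (fun t _ => Finset.mem_univ _) ?_ ?_
    · rename_i ht
      refine Subgroup.mem_inf.2 ⟨T.mul_mem (T.inv_mem ht₀) t.2,
        Subgroup.mem_centralizer_singleton_iff.2 (mul_inv_eq_iff_eq_mul.1 ?_)⟩
      have e1 : (t : G) * (r₀ : G) * (t : G)⁻¹ = t₀ * (r₀ : G) * t₀⁻¹ := by
        rw [e₀]
        exact congrArg (fun x : O => ((x : P) : G)) (Finset.mem_filter.1 ht).2
      calc t₀⁻¹ * (t : G) * (r₀ : G) * (t₀⁻¹ * (t : G))⁻¹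
          = t₀⁻¹ * ((t : G) * (r₀ : G) * (t : G)⁻¹) * t₀ := by simp [mul_assoc]
        _ = _ := by rw [e1]; simp [mul_assoc]
    · intro t _ t' _ h
      exact Subtype.ext (mul_left_cancel (congrArg Subtype.val h))
    · intro c _
      obtain ⟨hcT, hcC⟩ := Subgroup.mem_inf.1 c.2
      refine ⟨⟨t₀ * (c : G), T.mul_mem ht₀ hcT⟩,
        Finset.mem_filter.2 ⟨Finset.mem_univ _, Subtype.ext (Subtype.ext ?_)⟩,
        Subtype.ext (inv_mul_cancel_left _ _)⟩
      show t₀ * (c : G) * (r₀ : G) * (t₀ * (c : G))⁻¹ = ((w : P) : G)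
      rw [← e₀, mul_assoc t₀ (c : G), Subgroup.mem_centralizer_singleton_iff.1 hcC]
      simp [mul_assoc]
  rw [Finset.sum_congr rfl (g := fun _ => wt P e r₀ * F r₀) fun w hw => by
    rw [hF w hw, wt, wt, (hconst w hw).1, (hconst w hw).2], Finset.sum_const, nsmul_eq_mul, wt, hcount]
  have h1 : (O.card : ℂ) ≠ 0 := Nat.cast_ne_zero.2 fun h0 => by
    rw [h0, zero_mul] at hcount
    exact Nat.card_pos.ne' hcount
  have h2 : (Nat.card (T ⊓ Subgroup.centralizer ({(r₀ : G)} : Set G) : Subgroup G) : ℂ) ≠ 0 :=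
    Nat.cast_ne_zero.2 Nat.card_pos.ne'
  push_cast
  field_simp
  rfl

/-- A weighted sum over `P` is a sum over four representatives. -/
theorem sum_wt [Fact (Nat.Prime 2)] (h : Shape P P₁ P₂) (hM : IsPModular 2 M) {a b : G}
    (ha : a ∈ P₁) (ha1 : a ≠ 1) (hb : b ∈ P₂) (hb1 : b ≠ 1) {F : G → ℂ}
    (hF : ∀ n ∈ Subgroup.normalizer (P : Set G), ∀ w ∈ P, F (n * w * n⁻¹) = F w) :
    ∑ w : P, wt P (pb M P) w * F (w : G)
      = F 1 * (Nat.card (Subgroup.centralizer ({(1 : G)} : Set G)) : ℂ)⁻¹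
        + F a * (Nat.card (Subgroup.centralizer ({a} : Set G)) : ℂ)⁻¹
        + F b * (Nat.card (Subgroup.centralizer ({b} : Set G)) : ℂ)⁻¹
        + F (a * b) * (Nat.card (Subgroup.centralizer ({a * b} : Set G)) : ℂ)⁻¹ := by
  have hab : a * b ∈ P := P.mul_mem (h.le₁ ha) (h.le₂ hb)
  have horb : ∀ (r₀ : P) (O : Finset P),
      (∀ w, w ∈ O ↔ ∃ t ∈ pairStab P (pb M P), t * (r₀ : G) * t⁻¹ = (w : G)) →
      ∑ w ∈ O, wt P (pb M P) w * F (w : G)
        = F (r₀ : G) * (Nat.card (Subgroup.centralizer ({(r₀ : G)} : Set G)) : ℂ)⁻¹ := fun r₀ O hO =>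
    sum_orbit r₀ O hO (F := fun w => F (w : G)) fun w hw => by
      obtain ⟨t, ht, e⟩ := (hO w).1 hw
      rw [← e, hF t ((mem_pairStab_pb hM).1 ht) _ r₀.2]
  have hne : ∀ {n : G} {x : G}, x ≠ 1 → n * x * n⁻¹ ≠ 1 := fun hx e => hx (conj_eq_one_iff.1 e)
  have e0 := horb 1 {1} fun w => by
    rw [Finset.mem_singleton]
    refine ⟨fun e => ⟨1, one_mem _, by rw [e]; simp⟩, fun ⟨t, _, e⟩ => Subtype.ext ?_⟩
    rw [← e]; simp
  have e1 := horb ⟨a, h.le₁ ha⟩ (Finset.univ.filter fun w : P => (w : G) ∈ P₁ ∧ (w : G) ≠ 1) fun w => by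
    rw [Finset.mem_filter]
    constructor
    · rintro ⟨-, hw, hw1⟩
      obtain ⟨n, hn, -, e⟩ := h.trans₁ a ha ha1 _ hw hw1
      exact ⟨n, (mem_pairStab_pb hM).2 hn, e⟩
    · rintro ⟨t, ht, e⟩
      rw [← e]
      exact ⟨Finset.mem_univ _, h.stab₁ t ((mem_pairStab_pb hM).1 ht) a ha, hne ha1⟩
  have e2 := horb ⟨b, h.le₂ hb⟩ (Finset.univ.filter fun w : P => (w : G) ∈ P₂ ∧ (w : G) ≠ 1) fun w => by
    rw [Finset.mem_filter]
    constructor
    · rintro ⟨-, hw, hw1⟩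
      obtain ⟨n, hn, -, e⟩ := h.trans₂ b hb hb1 _ hw hw1
      exact ⟨n, (mem_pairStab_pb hM).2 hn, e⟩
    · rintro ⟨t, ht, e⟩
      rw [← e]
      exact ⟨Finset.mem_univ _, h.stab₂ t ((mem_pairStab_pb hM).1 ht) b hb, hne hb1⟩
  have e3 := horb ⟨a * b, hab⟩
    (Finset.univ.filter fun w : P => (w : G) ∉ P₁ ∧ (w : G) ∉ P₂) fun w => by
    rw [Finset.mem_filter]
    constructor
    · rintro ⟨-, hw1, hw2⟩
      obtain ⟨c, hc, d, hd, e⟩ := h.exists_mul w.2
      have hc1 : c ≠ 1 := fun e' => hw2 (by rw [e, e', one_mul]; exact hd)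
      have hd1 : d ≠ 1 := fun e' => hw1 (by rw [e, e', mul_one]; exact hc)
      obtain ⟨m, hm, hmfix, em⟩ := h.trans₁ a ha ha1 c hc hc1
      obtain ⟨n, hn, hnfix, en⟩ := h.trans₂ b hb hb1 d hd hd1
      refine ⟨n * m, (mem_pairStab_pb hM).2 (Subgroup.mul_mem _ hn hm), ?_⟩
      show n * m * (a * b) * (n * m)⁻¹ = (w : G)
      calc n * m * (a * b) * (n * m)⁻¹ = n * ((m * a * m⁻¹) * (m * b * m⁻¹)) * n⁻¹ := by
            simp [mul_assoc]
        _ = (n * c * n⁻¹) * (n * b * n⁻¹) := by rw [em, hmfix b hb]; simp [mul_assoc]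
        _ = (w : G) := by rw [hnfix c hc, en, e]
    · rintro ⟨t, ht, e⟩
      have ht' := (mem_pairStab_pb hM).1 ht
      have e' : (w : G) = (t * a * t⁻¹) * (t * b * t⁻¹) := by rw [← e]; simp [mul_assoc]
      have k1 := h.stab₁ t ht' a ha
      have k2 := h.stab₂ t ht' b hb
      refine ⟨Finset.mem_univ _, fun hw => hne (n := t) hb1 ?_, fun hw => hne (n := t) ha1 ?_⟩
      · exact (h.eq_of_mul_eq hw k1 P₂.one_mem k2 (by rw [mul_one, e'])).2.symm
      · exact (h.eq_of_mul_eq P₁.one_mem k1 hw k2 (by rw [one_mul, e'])).1.symm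
  rw [OneMemClass.coe_one] at e0
  rw [← e0, ← e1, ← e2, ← e3]
  simp only [Finset.sum_filter, Finset.sum_singleton]
  rw [show wt P (pb M P) (1 : P) * F ((1 : P) : G)
      = ∑ w : P, if w = 1 then wt P (pb M P) w * F (w : G) else 0 by
    rw [Finset.sum_ite_eq' Finset.univ (1 : P) (fun w => wt P (pb M P) w * F (w : G)), if_pos (Finset.mem_univ _)]]
  simp only [← Finset.sum_add_distrib]
  refine Finset.sum_congr rfl fun w _ => ?_
  by_cases hw : w = 1
  · subst hw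
    simp [P₁.one_mem, P₂.one_mem]
  · have hw' : (w : G) ≠ 1 := fun e => hw (Subtype.ext e)
    have hboth : ¬ ((w : G) ∈ P₁ ∧ (w : G) ∈ P₂) := fun hh => hw' (by
      have : (w : G) ∈ P₁ ⊓ P₂ := hh
      rwa [h.inf, Subgroup.mem_bot] at this)
    by_cases h1 : (w : G) ∈ P₁ <;> by_cases h2 : (w : G) ∈ P₂ <;> simp_all

/-- The contributions at the mixed element factor through one integral column. -/
theorem exists_column [Fact (Nat.Prime 2)] (h : Shape P P₁ P₂) (hodd : ¬ 2 ∣ P.index)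
    (hM : IsPModular 2 M) {a b : G} (ha : a ∈ P₁) (ha1 : a ≠ 1) (hb : b ∈ P₂) (hb1 : b ≠ 1) :
    ∃ d : IrrCharacter G → ℤ, d (trivChar G) = 1 ∧
      (∀ r s, 16 * sec M (a * b) r s = (d r : ℂ) * (d s : ℂ)) ∧
      blockRank 2 (pb M (Subgroup.zpowers (a * b))) = 1 := by
  set w : P := ⟨a * b, P.mul_mem (h.le₁ ha) (h.le₂ hb)⟩
  have hmax := h.hmax hodd hM
  have hQP : Subgroup.zpowers (w : G) ≤ P := Subgroup.zpowers_le.2 w.2
  have hind := bel_inducedIn hM hmax.1.1 h.comm w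
  have hnest := maximal_nested hM hmax h.comm hQP hind
  have hnil : IsNilpotentBlock 2 M (bel hM hmax.1.1 w).2 :=
    (nilpotent_nested_iff hM hmax h.comm hQP hind).2 fun g hg hgQ => by
      rw [centralizer_zpowers] at hgQ
      refine h.mem_centralizer ((mem_pairStab_pb hM).1 hg) ha ha1 hb hb1
        (mul_inv_eq_iff_eq_mul.2 ?_)
      exact Subgroup.mem_centralizer_singleton_iff.1 hgQ
  have hrank := blockRank_eq_one_of_nilpotent hM hnil hnest
  have hreg0 := nilpotent_regular hM hnil hnest (fun x hx y hy => Subtype.ext (h.comm _ hx _ hy))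
  set bl : Set (IrrCharacter (cenZ (a * b))) := (bel hM hmax.1.1 w).2 with hbl_def
  obtain ⟨χ₀, hreg, hnorm⟩ : ∃ χ₀ : IrrCharacter (cenZ (a * b)),
      (∀ ψ ∈ bl, ∀ x : cenZ (a * b), ¬ 2 ∣ orderOf x →
        (ψ : cenZ (a * b) → ℂ) x = (χ₀ : cenZ (a * b) → ℂ) x) ∧
      (Nat.card (P.subgroupOf (Subgroup.centralizer (Subgroup.zpowers (w : G) : Set G))) : ℂ)
        * ∑ x : cenZ (a * b) with IsPRegular 2 x,
          (χ₀ : cenZ (a * b) → ℂ) x * conj ((χ₀ : cenZ (a * b) → ℂ) x)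
        = (Nat.card (cenZ (a * b)) : ℂ) := hreg0
  have hbl : bl = pb M (Subgroup.zpowers (a * b)) := by
    have e := bel_eq hM hmax.1.1 w
    rw [hbl_def]
    rw [Sigma.ext_iff] at e
    exact eq_of_heq e.2
  obtain ⟨z, hzx, hz⟩ := center_zpowers_mem (a * b)
  have hz2 : z ^ 2 = 1 := Subtype.ext (by
    rw [SubgroupClass.coe_pow, hzx, pow_two]; exact h.elem _ w.2)
  have hint : ∀ (χ : IrrCharacter G) (ψ : IrrCharacter (cenZ (a * b))), ∃ m : ℤ,
      blockInd bl ψ * (resMult χ ψ * centScalar ψ z) = (m : ℂ) := by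
    intro χ ψ
    obtain ⟨n, hn⟩ := resMult_nat χ ψ
    by_cases hψ : ψ ∈ bl
    · rw [blockInd_of_mem hψ, one_mul, hn]
      rcases sq_eq_one_iff.1 (centScalar_pow_eq_one ψ hz hz2) with h | h
      · exact ⟨n, by rw [h]; simp⟩
      · exact ⟨-n, by rw [h]; simp⟩
    · exact ⟨0, by rw [blockInd_of_notMem hψ]; simp⟩
  choose m hm using hint
  set δ : IrrCharacter G → ℤ := fun χ => ∑ ψ, m χ ψ with hδ
  have hsec : ∀ χ, ∀ c : cenZ (a * b), ¬ 2 ∣ orderOf c →
      secPart (a * b) (cenZ (a * b)) bl χ c = (δ χ : ℂ) * (χ₀ : cenZ (a * b) → ℂ) c := by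
    intro χ c hc
    rw [secPart_eq_sum_mult hzx hz, hδ, Int.cast_sum, Finset.sum_mul]
    refine Finset.sum_congr rfl fun ψ _ => ?_
    rw [← hm]
    by_cases hψ : ψ ∈ bl
    · exact congrArg _ (hreg ψ hψ c hc)
    · rw [blockInd_of_notMem hψ]; ring
  have hone : ¬ 2 ∣ orderOf (1 : cenZ (a * b)) := by rw [orderOf_one]; norm_num
  have hd1 : δ (trivChar G) * δ (trivChar G) = 1 := by
    have e := hsec (trivChar G) 1 hone
    rw [show secPart (a * b) (cenZ (a * b)) bl (trivChar G) 1 = 1 by rw [hbl]; exact secPart_triv hM _ _,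
      irr_one_eq] at e
    have e' : δ (trivChar G) * (charDegree (χ₀ : cenZ (a * b) → ℂ) : ℤ) = 1 := by exact_mod_cast e.symm
    rcases Int.eq_one_or_neg_one_of_mul_eq_one e' with h | h <;> rw [h] <;> rfl
  refine ⟨fun χ => δ χ * δ (trivChar G), hd1, fun r s => ?_, by rw [← hbl]; exact hrank⟩
  have hP : (Nat.card (P.subgroupOf (Subgroup.centralizer
      (Subgroup.zpowers (w : G) : Set G))) : ℂ) = 16 := by
    rw [Nat.card_congr (Subgroup.subgroupOfEquivOfLe (le_centralizer_of_abelian h.comm hQP)).toEquiv,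
      h.card]
    norm_num
  rw [hP] at hnorm
  rw [sec, secInner, ← hbl, ← card_cenZ]
  rw [Finset.sum_congr rfl (g := fun c : cenZ (a * b) => (δ r : ℂ) * (δ s : ℂ) *
      ((χ₀ : cenZ (a * b) → ℂ) c * conj ((χ₀ : cenZ (a * b) → ℂ) c))) fun c hc => by
    rw [hsec r c (Finset.mem_filter.1 hc).2, hsec s c (Finset.mem_filter.1 hc).2, map_mul, map_intCast]
    ring, ← Finset.mul_sum]
  have hne : (Nat.card (cenZ (a * b)) : ℂ) ≠ 0 := Nat.cast_ne_zero.2 Nat.card_pos.ne'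
  have hnorm' : 16 * ∑ c : cenZ (a * b) with IsPRegular 2 c,
      (χ₀ : cenZ (a * b) → ℂ) c * conj ((χ₀ : cenZ (a * b) → ℂ) c) = (Nat.card (cenZ (a * b)) : ℂ) := hnorm
  have hd1' : (δ (trivChar G) : ℂ) * (δ (trivChar G) : ℂ) = 1 := by exact_mod_cast hd1
  push_cast
  field_simp
  linear_combination ((δ r : ℂ) * (δ s : ℂ)) * hnorm'
    - ((δ r : ℂ) * (δ s : ℂ) * (Nat.card (cenZ (a * b)) : ℂ)) * hd1'

/-- The contributions at a point of `P₁` in integral coordinates. -/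
theorem exists_sec_coord [Fact (Nat.Prime 2)] (h : Shape P P₁ P₂) (hodd : ¬ 2 ∣ P.index)
    (hM : IsPModular 2 M) {a : G} (ha : a ∈ P₁) (ha1 : a ≠ 1) :
    ∃ (κ : Type u) (S : Finset κ) (t : κ) (α : κ → ℤ) (m : IrrCharacter G → κ → ℤ),
      t ∈ S ∧ α t = 1 ∧ (∀ i ∈ S, α i * α i = 1) ∧
      (∀ i, m (trivChar G) i = if i = t then 1 else 0) ∧
      ∀ r s, 16 * sec M a r s = ((4 * ∑ i ∈ S, m r i * m s i
        - (∑ i ∈ S, α i * m r i) * (∑ i ∈ S, α i * m s i) : ℤ) : ℂ) := by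
  obtain ⟨N, S, t, α, m, htS, hαt, hα, hmt, hgram⟩ := (h.local_centralizer hodd ha ha1).exists_coord hM
  obtain ⟨z, hzx, hz⟩ := center_zpowers_mem a
  have hz2 : z ^ 2 = 1 := Subtype.ext (by
    rw [SubgroupClass.coe_pow, hzx, pow_two]; exact h.elem _ (h.le₁ ha))
  set bl := principalBlock M (cenZ a)
  have hint : ∀ (χ : IrrCharacter G) (ψ : IrrCharacter (cenZ a)), ∃ n : ℤ,
      blockInd bl ψ * (resMult χ ψ * centScalar ψ z) = (n : ℂ) := by
    intro χ ψ
    obtain ⟨n, hn⟩ := resMult_nat χ ψ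
    by_cases hψ : ψ ∈ bl
    · rw [blockInd_of_mem hψ, one_mul, hn]
      rcases sq_eq_one_iff.1 (centScalar_pow_eq_one ψ hz hz2) with h | h
      · exact ⟨n, by rw [h]; simp⟩
      · exact ⟨-n, by rw [h]; simp⟩
    · exact ⟨0, by rw [blockInd_of_notMem hψ]; simp⟩
  choose ν hν using hint
  refine ⟨IrrCharacter N, S, t, α, fun χ i => ∑ ψ, ν χ ψ * m ψ i, htS, hαt, hα, fun i => ?_,
    fun r s => ?_⟩
  · have hνt : ∀ ψ, ν (trivChar G) ψ = if ψ = trivChar (cenZ a) then 1 else 0 := fun ψ => by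
      apply Int.cast_injective (α := ℂ)
      rw [← hν, resMult,
        show (fun k : cenZ a => (trivChar G : G → ℂ) k) = (trivChar (cenZ a) : cenZ a → ℂ) from rfl,
        Char.classInner_irrCharacter]
      by_cases e : ψ = trivChar (cenZ a)
      · rw [if_pos e, if_pos e.symm, e, blockInd_of_mem (trivChar_mem_principalBlock hM), centScalar]
        simp
      · rw [if_neg e, if_neg (Ne.symm e)]
        simp
    show ∑ ψ, ν (trivChar G) ψ * m ψ i = _
    refine Eq.trans ?_ ((hmt i).trans (by congr))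
    simp [hνt]
  have hs : ∀ χ (c : cenZ a), secPart a (cenZ a) bl χ c
      = ∑ ψ : IrrCharacter (cenZ a), (ν χ ψ : ℂ) * (ψ : cenZ a → ℂ) c := fun χ c => by
    rw [secPart_eq_sum_mult hzx hz]
    exact Finset.sum_congr rfl fun ψ _ => by rw [hν]
  have key : ∀ ψ ψ' : IrrCharacter (cenZ a), (ν r ψ : ℂ) * (ν s ψ' : ℂ) *
      (16 * ∑ c : cenZ a with IsPRegular 2 c, (ψ : cenZ a → ℂ) c * conj ((ψ' : cenZ a → ℂ) c))
      = (Nat.card (cenZ a) : ℂ) * ((ν r ψ * ν s ψ' * (4 * ∑ i ∈ S, m ψ i * m ψ' i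
          - (∑ i ∈ S, α i * m ψ i) * (∑ i ∈ S, α i * m ψ' i)) : ℤ) : ℂ) := by
    intro ψ ψ'
    by_cases hψ : ψ ∈ bl
    · by_cases hψ' : ψ' ∈ bl
      · rw [hgram ψ hψ ψ' hψ']
        push_cast
        ring
      · have e : ν s ψ' = 0 := Int.cast_injective (α := ℂ) (by rw [← hν, blockInd_of_notMem hψ']; simp)
        simp [e]
    · have e : ν r ψ = 0 := Int.cast_injective (α := ℂ) (by rw [← hν, blockInd_of_notMem hψ]; simp)
      simp [e]
  have hZ : (∑ ψ, ∑ ψ', ν r ψ * ν s ψ' * (4 * ∑ i ∈ S, m ψ i * m ψ' i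
      - (∑ i ∈ S, α i * m ψ i) * (∑ i ∈ S, α i * m ψ' i)))
      = 4 * ∑ i ∈ S, (∑ ψ, ν r ψ * m ψ i) * (∑ ψ, ν s ψ * m ψ i)
        - (∑ i ∈ S, α i * ∑ ψ, ν r ψ * m ψ i) * (∑ i ∈ S, α i * ∑ ψ, ν s ψ * m ψ i) := by
    have e1 : ∀ χ, ∑ i ∈ S, α i * ∑ ψ, ν χ ψ * m ψ i = ∑ ψ, ν χ ψ * ∑ i ∈ S, α i * m ψ i := fun χ => by
      simp only [Finset.mul_sum]
      rw [Finset.sum_comm]
      exact Finset.sum_congr rfl fun ψ _ => Finset.sum_congr rfl fun i _ => by ring
    have e2 : ∑ i ∈ S, (∑ ψ, ν r ψ * m ψ i) * (∑ ψ, ν s ψ * m ψ i)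
        = ∑ ψ, ∑ ψ', ν r ψ * ν s ψ' * ∑ i ∈ S, m ψ i * m ψ' i := by
      rw [Finset.sum_congr rfl fun i _ => Finset.sum_mul_sum _ _ _ _, Finset.sum_comm]
      refine Finset.sum_congr rfl fun ψ _ => ?_
      rw [Finset.sum_comm]
      refine Finset.sum_congr rfl fun ψ' _ => ?_
      rw [Finset.mul_sum]
      exact Finset.sum_congr rfl fun i _ => by ring
    rw [e1, e1, e2, Finset.sum_mul_sum, Finset.mul_sum, ← Finset.sum_sub_distrib]
    refine Finset.sum_congr rfl fun ψ _ => ?_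
    rw [Finset.mul_sum, ← Finset.sum_sub_distrib]
    exact Finset.sum_congr rfl fun ψ' _ => by ring
  have hsum : 16 * secInner 2 r s (⟨a, pb M (Subgroup.zpowers a)⟩ : BElem G)
      = (Nat.card (cenZ a) : ℂ) * ((4 * ∑ i ∈ S, (∑ ψ, ν r ψ * m ψ i) * (∑ ψ, ν s ψ * m ψ i)
        - (∑ i ∈ S, α i * ∑ ψ, ν r ψ * m ψ i) * (∑ i ∈ S, α i * ∑ ψ, ν s ψ * m ψ i) : ℤ) : ℂ) := by
    rw [← hZ, secInner]
    show 16 * ∑ c : cenZ a with IsPRegular 2 c,
      secPart a (cenZ a) bl r c * conj (secPart a (cenZ a) bl s c) = _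
    rw [Finset.sum_congr rfl fun c _ => by rw [hs r c, hs s c, map_sum, Finset.sum_mul_sum],
      Finset.sum_comm, Finset.mul_sum, Int.cast_sum, Finset.mul_sum]
    refine Finset.sum_congr rfl fun ψ _ => ?_
    rw [Finset.sum_comm, Finset.mul_sum, Int.cast_sum, Finset.mul_sum]
    refine Finset.sum_congr rfl fun ψ' _ => ?_
    rw [← key ψ ψ', Finset.mul_sum, Finset.mul_sum, Finset.mul_sum]
    exact Finset.sum_congr rfl fun c _ => by rw [map_mul, map_intCast]; ring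
  have hne : (Nat.card (cenZ a) : ℂ) ≠ 0 := Nat.cast_ne_zero.2 Nat.card_pos.ne'
  rw [sec, ← card_cenZ, ← mul_assoc, hsum, mul_comm (Nat.card (cenZ a) : ℂ), mul_assoc,
    mul_inv_cancel₀ hne, mul_one]

/-- The rank of the section of a point of `P₁`. -/
theorem rank_three [Fact (Nat.Prime 2)] (h : Shape P P₁ P₂) (hodd : ¬ 2 ∣ P.index)
    (hM : IsPModular 2 M) {a : G} (ha : a ∈ P₁) (ha1 : a ≠ 1) :
    blockRank 2 (pb M (Subgroup.zpowers a)) = 3 := by
  obtain ⟨v, hv, hv1, hva⟩ : ∃ v ∈ P₁, v ≠ 1 ∧ v ≠ a := by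
    by_contra hno
    push Not at hno
    have hsub : (P₁ : Set G) ⊆ {1, a} := fun x hx => by
      by_cases hx1 : x = 1
      · exact Or.inl hx1
      · exact Or.inr (hno x hx hx1)
    have h1 := Set.ncard_le_ncard hsub
    rw [Set.ncard_pair (Ne.symm ha1)] at h1
    have h2 : (P₁ : Set G).ncard = 4 := h.card₁
    omega
  set C := cenZ a
  have hL : Local (P.subgroupOf C) (P₁.subgroupOf C) (P₂.subgroupOf C) := h.local_centralizer hodd ha ha1
  have hpC : IsPGroup 2 (P.subgroupOf C) := IsPGroup.of_card (n := 4) (by rw [hL.card]; rfl)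
  have hmax := isMaximal_of_odd (M := M) hM hpC hL.odd
  have hPC : P ≤ C := le_centralizer_of_abelian h.comm (Subgroup.zpowers_le.2 (h.le₁ ha))
  set u : P.subgroupOf C := ⟨⟨v, hPC (h.le₁ hv)⟩, h.le₁ hv⟩
  have hfix : ∀ t ∈ pairStab (P.subgroupOf C) (pb M (P.subgroupOf C)),
      t * (u : C) * t⁻¹ = (u : C) := fun t ht => hL.fixed t (pairStab_le_normalizer _ ht) _ hv
  obtain ⟨h1, -⟩ := rank_fixed hM _ C rfl _ _ _ hmax hL.comm u hfix
  rw [show blockRank 2 (pb M (Subgroup.zpowers a)) = blockRank 2 (principalBlock M C) from rfl, h1,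
    ← blockRank_bel hM hmax.1.1 hL.comm u]
  have hb : (bel hM hmax.1.1 u).2 = pb M (Subgroup.zpowers (u : C)) := by
    have e := bel_eq hM hmax.1.1 u
    rw [Sigma.ext_iff] at e
    exact eq_of_heq e.2
  rw [hb]
  set H := cenZ (u : C)
  have hPH : P.subgroupOf C ≤ H := le_centralizer_of_abelian hL.comm (Subgroup.zpowers_le.2 u.2)
  have hL2 : Local ((P.subgroupOf C).subgroupOf H) ((P₁.subgroupOf C).subgroupOf H)
      ((P₂.subgroupOf C).subgroupOf H) := by
    refine Local.subgroupOf hL.elem hL.le₁ hL.le₂ hL.card hL.card₁ hL.card₂ hL.inf hL.odd hL.stab₂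
      hPH (fun n hn _ => hL.fixed n hn) fun x hx hx1 y hy hy1 => ?_
    obtain ⟨n, hn, e⟩ := hL.trans₂ x hx hx1 y hy hy1
    exact ⟨n, hn, mem_cenZ.2 (mul_inv_eq_iff_eq_mul.1 (hL.fixed n hn _ hv)), e⟩
  refine hL2.blockRank_central (fun x hx => ?_) hM
  -- `P₁` is generated by `a` and `v`
  let Z : Subgroup G := ((Subgroup.center H).map H.subtype).map C.subtype
  have haZ : a ∈ Z := by
    have haC : a ∈ C := hPC (h.le₁ ha)
    have haH : (⟨a, haC⟩ : C) ∈ H := hPH (h.le₁ ha)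
    refine ⟨⟨a, haC⟩, ⟨⟨⟨a, haC⟩, haH⟩, Subgroup.mem_center_iff.2 fun g => ?_, rfl⟩, rfl⟩
    exact Subtype.ext (Subtype.ext (mem_cenZ.1 (g : C).2))
  have hvZ : v ∈ Z := by
    refine ⟨(u : C), ⟨⟨(u : C), hPH u.2⟩, Subgroup.mem_center_iff.2 fun g => ?_, rfl⟩, rfl⟩
    exact Subtype.ext (mem_cenZ.1 g.2)
  have hle : P₁ ≤ Z := by
    refine inf_eq_left.1 (Subgroup.eq_of_le_of_card_ge inf_le_left ?_)
    rw [h.card₁]
    have hd : Nat.card (P₁ ⊓ Z : Subgroup G) ∣ 4 := h.card₁ ▸ Subgroup.card_dvd_of_le inf_le_left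
    have h3 : 3 ≤ Nat.card (P₁ ⊓ Z : Subgroup G) := by
      let f : Fin 3 → (P₁ ⊓ Z : Subgroup G) :=
        ![1, ⟨a, ha, haZ⟩, ⟨v, hv, hvZ⟩]
      have hf : Function.Injective f := by
        intro i j e
        fin_cases i <;> fin_cases j <;> simp [f, Subtype.ext_iff] at e ⊢ <;>
          first
            | exact ha1 e | exact ha1 e.symm | exact hv1 e | exact hv1 e.symm
            | exact hva e | exact hva e.symm
      have := Nat.card_le_card_of_injective f hf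
      rwa [Nat.card_eq_fintype_card, Fintype.card_fin] at this
    have := Nat.le_of_dvd (by norm_num) hd
    interval_cases (Nat.card (P₁ ⊓ Z : Subgroup G)) <;> omega
  obtain ⟨y, ⟨y', hy', rfl⟩, e⟩ := hle (show ((x : C) : G) ∈ P₁ from hx)
  rw [show x = y' from (Subtype.ext (Subtype.ext e)).symm]
  exact hy'

end CfsgLib.BlockSixteen
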