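import Cfsg.Agent.Lib.BlockSixteen.Lattice
import Cfsg.Agent.Lib.BlockSixteen.Sections
import Cfsg.Agent.Lib.BrouePuig.Product

/-!
# The principal block with an elementary Sylow subgroup of order 16 and inertial index 9
-/

set_option autoImplicit false
set_option maxHeartbeats 1000000
set_option linter.style.haveILetI false

namespace CfsgLib.BlockSixteen

open Cfsg CfsgLib.Blocks CfsgLib.BrauerPairs CfsgLib.BrouePuig
open scoped Classical ComplexConjugate

universe u

variable {G : Type u} [Group G] [Fintype G] {M : Ideal AlgInt} {P P₁ P₂ : Subgroup G}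

/-- Four times the indicator of the complement of `R`. -/
noncomputable def zeta (P R : Subgroup G) : P → ℂ := fun w => if (w : G) ∈ R then 0 else 4

theorem Shape.stable (h : Shape P P₁ P₂) (hodd : ¬ 2 ∣ P.index) [Fact (Nat.Prime 2)]
    (hM : IsPModular 2 M) : Stable 2 M P (pb M P) (zeta P P₂) := by
  refine stable_of_invariant hM (h.hmax hodd hM) h.comm fun t ht w w' e => ?_
  have ht' := (mem_pairStab_pb hM).1 ht
  have hiff : (w' : G) ∈ P₂ ↔ (w : G) ∈ P₂ := by
    refine ⟨fun hw => ?_, fun hw => e ▸ h.stab₂ t ht' _ hw⟩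
    have := h.stab₂ t⁻¹ ((Subgroup.normalizer (P : Set G)).inv_mem ht') _ hw
    rw [e] at this
    simpa [mul_assoc] using this
  simp only [zeta, hiff]

theorem Shape.gen (h : Shape P P₁ P₂) : IsGeneralizedCharacter P (zeta P P₂) := by
  set R := P₂.subgroupOf P
  haveI : R.Normal := ⟨fun x hx g => by
    rwa [show g * x * g⁻¹ = x from Subtype.ext (by
      show (g : G) * x * (g : G)⁻¹ = x
      rw [h.comm _ g.2 _ x.2, mul_inv_cancel_right])]⟩
  have hone : IsCharacter P (fun _ : P => (1 : ℂ)) := Char.isCharacter_one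
  have hR : IsCharacter P (Cfsg.indFun R (fun _ : R => (1 : ℂ))) :=
    Char.IsCharacter.indFun R Char.isCharacter_one
  have hfour : IsCharacter P (fun _ : P => (4 : ℂ)) := by
    have e : (fun _ : P => (4 : ℂ)) = 4 • (fun _ : P => (1 : ℂ)) := by funext w; simp
    rw [e]
    exact Char.IsCharacter.nsmul hone 4
  refine ⟨_, _, hfour, hR, funext fun w => ?_⟩
  show zeta P P₂ w = 4 - Cfsg.indFun R (fun _ : R => (1 : ℂ)) w
  by_cases hw : (w : G) ∈ P₂
  · have hc : (Nat.card R : ℂ) = 4 := by
      rw [Nat.card_congr (Subgroup.subgroupOfEquivOfLe h.le₂).toEquiv, h.card₂]; norm_num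
    rw [zeta, if_pos hw, show w = ((⟨w, hw⟩ : R) : P) from rfl, Char.indFun_apply_of_normal,
      Finset.sum_const, Finset.card_univ, ← Nat.card_eq_fintype_card, h.card, hc, nsmul_eq_mul]
    norm_num
  · rw [zeta, if_neg hw, Char.indFun_eq_zero_of_normal R _ (show w ∉ R from hw), sub_zero]

theorem secInner_conj (r s : IrrCharacter G) (a : BElem G) :
    conj (secInner 2 r s a) = secInner 2 s r a := by
  rw [secInner, secInner, map_sum]
  exact Finset.sum_congr rfl fun c _ => by rw [map_mul, Complex.conj_conj, mul_comm]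

/-- A weighted sum of contributions of two products. -/
theorem sum_wt_sec [Fact (Nat.Prime 2)] (h : Shape P P₁ P₂) (hodd : ¬ 2 ∣ P.index) (hM : IsPModular 2 M)
    {a b : G} (ha : a ∈ P₁) (ha1 : a ≠ 1) (hb : b ∈ P₂) (hb1 : b ≠ 1) (r s : IrrCharacter G)
    (φ : G → ℂ) (hφ : ∀ n ∈ Subgroup.normalizer (P : Set G), ∀ w ∈ P, φ (n * w * n⁻¹) = φ w) :
    ∑ w : P, wt P (pb M P) w *
        (φ (w : G) * secInner 2 r s (bel hM (h.hmax hodd hM).1.1 w))
      = φ 1 * sec M 1 r s + φ a * sec M a r s + φ b * sec M b r s + φ (a * b) * sec M (a * b) r s := by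
  have hP := (h.hmax hodd hM).1.1
  set F : G → ℂ := fun g => φ g * secInner 2 r s (⟨g, pb M (Subgroup.zpowers g)⟩ : BElem G) with hF
  rw [Finset.sum_congr rfl (g := fun w : P => wt P (pb M P) w * F (w : G)) fun w _ => by
    rw [bel_eq hM hP w], sum_wt h hM ha ha1 hb hb1 (F := F) fun n hn w hw => ?_]
  · simp only [hF, sec]
    ring
  · have e := secInner_act hM r s n (a := bel hM hP ⟨w, hw⟩)
      (isElemOf_of_below hM (h.hmax hodd hM) (bel_below hM hP ⟨w, hw⟩)).1.2
    rw [act_bel_stab hM hP ((mem_pairStab_pb hM).2 hn), bel_eq hM hP, bel_eq hM hP] at e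
    simp only [hF, hφ n hn w hw]
    rw [e]

/-- One of the two products. -/
theorem exists_product [Fact (Nat.Prime 2)] (h : Shape P P₁ P₂) (hodd : ¬ 2 ∣ P.index)
    (hM : IsPModular 2 M) {a b : G} (ha : a ∈ P₁) (ha1 : a ≠ 1) (hb : b ∈ P₂) (hb1 : b ≠ 1)
    (d : IrrCharacter G → ℤ) (hd1 : d (trivChar G) = 1)
    (hd : ∀ r s, 16 * sec M (a * b) r s = (d r : ℂ) * (d s : ℂ))
    (hrk : blockRank 2 (pb M (Subgroup.zpowers (a * b))) = 1) :
    ∃ A : IrrCharacter G → IrrCharacter G → ℤ,
      (∀ r s : IrrCharacter G, classInner (star hM (etaOf 2 M P (pb M P) (zeta P P₂)) r) (s : G → ℂ) = (A r s : ℂ)) ∧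
      (∀ r, ∀ s, s ∉ principalBlock M G → A r s = 0) ∧
      (∀ r ∈ principalBlock M G, ∀ s ∈ principalBlock M G,
        (A r s : ℂ) = 4 * (sec M a r s + sec M (a * b) r s)) ∧
      (∀ r ∈ principalBlock M G, ∀ s ∈ principalBlock M G, A r s = A s r) ∧
      (∀ r ∈ principalBlock M G, ∀ s ∈ principalBlock M G,
        ∑ u ∈ (principalBlock M G).toFinset, A r u * A u s = 4 * A r s) ∧
      ∑ r ∈ (principalBlock M G).toFinset, A r r = 16 ∧
      A (trivChar G) (trivChar G) = 1 ∧
      (∀ r ∈ principalBlock M G, 2 ∣ A r r - d r) ∧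
      (∀ r ∈ principalBlock M G,
        ∑ u ∈ (principalBlock M G).toFinset, A r u * (charDegree (u : G → ℂ) : ℤ) = 0) := by
  set B := principalBlock M G
  have hmax := h.hmax hodd hM
  have hst := h.stable hodd hM
  set η := etaOf 2 M P (pb M P) (zeta P P₂) with hη
  have hgen : ∀ r, IsGeneralizedCharacter G (star hM η r) := fun r =>
    star_isGen (etaOf_compatible hM hmax hst h.gen) r
  have hint : ∀ r s : IrrCharacter G, ∃ n : ℤ, classInner (star hM η r) (s : G → ℂ) = (n : ℂ) :=
    fun r s => Char.IsGeneralizedCharacter.classInner_int (hgen r)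
      (Char.IsCharacter.isGeneralizedCharacter (Char.isCharacter_irr s))
  choose A hA using hint
  have hzero : ∀ r, ∀ s, s ∉ B → A r s = 0 := fun r s hs => by
    apply Int.cast_injective (α := ℂ)
    rw [← hA, Int.cast_zero, show (s : G → ℂ) = star hM (fun _ => (1 : ℂ)) s from
      (funext (CfsgLib.BrouePuig.star_one s)).symm, hη, classInner_etaOf hmax]
    refine mul_eq_zero_of_right _ (Finset.sum_eq_zero fun x hx => ?_)
    have hel := (Finset.mem_filter.1 hx).2
    rw [secInner, Finset.sum_eq_zero, mul_zero]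
    intro c hc
    rw [secPart_eq_zero_of_notMem hM (cenZ_eq x.1) (mem_elems.1 (IsElemOf.mem hM.1 hel)).1
      ((isBrauerPairOf_iff_induced hM hel.1.1 hel.1.2).1 hel) hs (Finset.mem_filter.1 hc).2,
      map_zero, mul_zero]
  set φ : G → ℂ := fun g => if g ∈ P₂ then 0 else 4 with hφdef
  have hφinv : ∀ n ∈ Subgroup.normalizer (P : Set G), ∀ w ∈ P, φ (n * w * n⁻¹) = φ w := by
    intro n hn w _
    have hiff : n * w * n⁻¹ ∈ P₂ ↔ w ∈ P₂ := by
      refine ⟨fun hw => ?_, h.stab₂ n hn w⟩
      have := h.stab₂ n⁻¹ ((Subgroup.normalizer (P : Set G)).inv_mem hn) _ hw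
      simpa [mul_assoc] using this
    simp only [hφdef, hiff]
  have hbP : a * b ∉ P₂ := fun hh => ha1 (by
    have := h.eq_of_mul_eq (a := a) (b := b) (a' := 1) (b' := a * b) ha P₁.one_mem hb hh (by rw [one_mul])
    exact this.1)
  have haP : a ∉ P₂ := fun hh => ha1 (by
    have : a ∈ P₁ ⊓ P₂ := ⟨ha, hh⟩
    rwa [h.inf, Subgroup.mem_bot] at this)
  have hφa : φ a = 4 := if_neg haP
  have hφb : φ b = 0 := if_pos hb
  have hφab : φ (a * b) = 4 := if_neg hbP
  have hφ1 : φ 1 = 0 := if_pos P₂.one_mem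
  have hconj : ∀ w : P, conj (φ (w : G)) = φ (w : G) := fun w => by
    by_cases k : (w : G) ∈ P₂
    · simp [φ, k]
    · simp only [φ, if_neg k]
      exact map_ofNat _ 4
  have hform : ∀ r ∈ B, ∀ s ∈ B, (A r s : ℂ) = 4 * (sec M a r s + sec M (a * b) r s) := by
    intro r _ s hs
    have e := classInner_star_abelian hM hmax h.comm hst (stable_const 1) r s
    rw [star_etaOf_one hmax hs, ← hη, hA] at e
    rw [e, Finset.sum_congr rfl (g := fun w : P => wt P (pb M P) w *
      (φ (w : G) * secInner 2 r s (bel hM hmax.1.1 w))) fun w _ => by rw [map_one, mul_one]; rfl,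
      sum_wt_sec h hodd hM ha ha1 hb hb1 r s φ hφinv, hφ1, hφa, hφb, hφab]
    ring
  have hsym : ∀ r ∈ B, ∀ s ∈ B, A r s = A s r := fun r hr s hs => by
    apply Int.cast_injective (α := ℂ)
    rw [← map_intCast (starRingEnd ℂ) (A r s), hform r hr s hs, hform s hs r hr]
    simp only [sec, map_mul, map_add, secInner_conj, map_inv₀, map_natCast, map_ofNat]
  have hsq : ∀ r ∈ B, ∀ s ∈ B, ∑ u ∈ B.toFinset, A r u * A u s = 4 * A r s := by
    intro r hr s hs
    have e := classInner_star_abelian hM hmax h.comm hst hst r s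
    rw [← hη, Finset.sum_congr rfl (g := fun w : P => wt P (pb M P) w *
      ((4 * φ (w : G)) * secInner 2 r s (bel hM hmax.1.1 w))) fun w _ => by
        rw [show zeta P P₂ w = φ (w : G) from rfl, hconj]
        simp only [hφdef]
        split <;> ring,
      sum_wt_sec h hodd hM ha ha1 hb hb1 r s (fun g => 4 * φ g) fun n hn w hw => by rw [hφinv n hn w hw],
      hφ1, hφa, hφb, hφab,
      Char.classInner_eq_sum_irr (Char.IsGeneralizedCharacter.isClassFunction (hgen r))] at e
    apply Int.cast_injective (α := ℂ)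
    push_cast
    rw [hform r hr s hs]
    refine Eq.trans ?_ (e.trans (by ring))
    refine (Finset.sum_congr rfl fun u hu => ?_).trans
      (Finset.sum_subset (Finset.subset_univ _) fun u _ hu => ?_)
    · rw [hA, hsym u (Set.mem_toFinset.1 hu) s hs,
        ← Char.classInner_conj_symm (star hM η s) (u : G → ℂ), hA, map_intCast]
    · rw [hA, hzero r u (by simpa using hu), Int.cast_zero, zero_mul]
  obtain ⟨κ, S, t, α, m, htS, hαt, hα, hmt, hcoord⟩ := exists_sec_coord h hodd hM ha ha1
  set e : IrrCharacter G → ℤ := fun r => ∑ i ∈ S, α i * m r i with he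
  have heq : ∀ r ∈ B, ∀ s ∈ B, 4 * A r s = 4 * ∑ i ∈ S, m r i * m s i - e r * e s + d r * d s := by
    intro r hr s hs
    apply Int.cast_injective (α := ℂ)
    have h1 := hcoord r s
    have h2 := hd r s
    push_cast [he] at h1 ⊢
    rw [hform r hr s hs]
    linear_combination h1 + h2
  have hτ : trivChar G ∈ B := trivChar_mem_principalBlock hM
  have hmsum : ∀ g : κ → ℤ, ∑ i ∈ S, g i * m (trivChar G) i = g t := fun g => by
    rw [Finset.sum_eq_single_of_mem t htS fun i _ hi => by rw [hmt, if_neg hi, mul_zero], hmt,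
      if_pos rfl, mul_one]
  have het : e (trivChar G) = 1 := (hmsum α).trans hαt
  have hAt : A (trivChar G) (trivChar G) = 1 := by
    have h1 := heq _ hτ _ hτ
    rw [hmsum, het, hd1, hmt, if_pos rfl] at h1
    linarith
  refine ⟨A, hA, hzero, hform, hsym, hsq, ?_, hAt, fun r hr => ?_, fun r hr => ?_⟩
  · apply Int.cast_injective (α := ℂ)
    rw [Int.cast_sum, Finset.sum_congr rfl fun r hr => hform r (Set.mem_toFinset.1 hr) r (Set.mem_toFinset.1 hr),
      ← Finset.mul_sum, Finset.sum_add_distrib, sum_sec hM (h.orderOf_pow (h.le₁ ha)),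
      sum_sec hM (h.orderOf_pow (P.mul_mem (h.le₁ ha) (h.le₂ hb))), rank_three h hodd hM ha ha1, hrk]
    norm_num
  · have h1 := heq r hr _ hτ
    rw [hmsum, het, hd1, mul_one, mul_one] at h1
    have h2 := heq r hr r hr
    obtain ⟨k, hk⟩ : ∃ k : ℤ, e r = d r + 4 * k := ⟨m r t - A r (trivChar G), by linarith⟩
    rw [hk] at h2
    obtain ⟨c, hc⟩ : (2 : ℤ) ∣ (∑ i ∈ S, m r i * m r i) - e r := by
      rw [he, ← Finset.sum_sub_distrib]
      refine Finset.dvd_sum fun i hi => ?_
      obtain ⟨c, hc⟩ : Even (m r i * (m r i - 1)) := Int.even_mul_pred_self _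
      rcases mul_self_eq_one_iff.1 (hα i hi) with hh | hh <;> rw [hh]
      · exact ⟨c, by linear_combination hc⟩
      · exact ⟨c + m r i, by linear_combination hc⟩
    rw [hk] at hc
    refine ⟨c + 2 * k - k * d r - 2 * (k * k) + k * 0 - 0, ?_⟩
    have h3 : 4 * (A r r - d r) = 4 * (2 * c + 4 * k - 2 * (k * d r) - 4 * (k * k)) := by
      linear_combination h2 + 4 * hc
    linarith
  · apply Int.cast_injective (α := ℂ)
    push_cast
    have e1 := congrFun (Char.IsClassFunction.eq_sum_irr
      (Char.IsGeneralizedCharacter.isClassFunction (hgen r))) 1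
    rw [hη, star_etaOf_regular hmax hst hr (show ¬ 2 ∣ orderOf (1 : G) by rw [orderOf_one]; norm_num)] at e1
    simp only [Finset.sum_apply, Pi.smul_apply, smul_eq_mul] at e1
    rw [show zeta P P₂ (1 : P) = 0 from if_pos P₂.one_mem, zero_mul] at e1
    refine Eq.trans ?_ e1.symm
    refine (Finset.sum_congr rfl fun u _ => ?_).trans
      (Finset.sum_subset (Finset.subset_univ _) fun u _ hu => ?_)
    · rw [← hη, hA, irr_one_eq]
    · rw [← hη, hA, hzero r u (by simpa using hu), Int.cast_zero, zero_mul]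

/-- The numbers of ordinary and modular characters. -/
theorem card_and_rank [Fact (Nat.Prime 2)] (h : Shape P P₁ P₂) (hodd : ¬ 2 ∣ P.index)
    (hM : IsPModular 2 M) :
    Nat.card (principalBlock M G) = 16 ∧ blockRank 2 (principalBlock M G) = 9 := by
  obtain ⟨a, ha, ha1⟩ := h.exists_ne_one₁
  obtain ⟨b, hb, hb1⟩ := h.symm.exists_ne_one₁
  obtain ⟨d, hd1, hd, hrk⟩ := exists_column h hodd hM ha ha1 hb hb1
  have hba : b * a = a * b := h.comm _ (h.le₂ hb) _ (h.le₁ ha)
  obtain ⟨A, hA, hAzero, hAf, hAs, hA2, hAtr, hAt, hAp, hAdeg⟩ :=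
    exists_product h hodd hM ha ha1 hb hb1 d hd1 hd hrk
  obtain ⟨A', hA', hA'zero, hA'f, hA's, hA'2, hA'tr, hA't, hA'p, hA'deg⟩ :=
    exists_product h.symm hodd hM hb hb1 ha ha1 d hd1 (by rw [hba]; exact hd) (by rw [hba]; exact hrk)
  set B := principalBlock M G
  have hmax := h.hmax hodd hM
  have hτ : trivChar G ∈ B := trivChar_mem_principalBlock hM
  have hone : ∀ r ∈ B, ∀ s ∈ B, (if r = s then (1 : ℂ) else 0)
      = sec M 1 r s + sec M a r s + sec M b r s + sec M (a * b) r s := by
    intro r hr s hs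
    have e := classInner_star_abelian hM hmax h.comm (stable_const 1) (stable_const 1) r s
    rw [star_etaOf_one hmax hr, star_etaOf_one hmax hs, Char.classInner_irrCharacter] at e
    rw [e, Finset.sum_congr rfl (g := fun w : P => wt P (pb M P) w *
      ((1 : ℂ) * secInner 2 r s (bel hM hmax.1.1 w))) fun w _ => by rw [map_one, mul_one],
      sum_wt_sec h hodd hM ha ha1 hb hb1 r s (fun _ => 1) fun _ _ _ _ => rfl]
    simp only [one_mul]
  have hX : ∀ r ∈ B, ∀ s ∈ B, 16 * sec M 1 r s = ((16 * (if r = s then 1 else 0)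
      - 4 * (A r s + A' r s) + d r * d s : ℤ) : ℂ) := by
    intro r hr s hs
    have e1 := hone r hr s hs
    have e2 := hAf r hr s hs
    have e3 := hA'f r hr s hs
    have e4 := hd r s
    rw [hba] at e3
    push_cast
    linear_combination (-16 : ℂ) * e1 + 4 * e2 + 4 * e3 + e4
  have hAB : ∀ r ∈ B, ∀ s ∈ B, ∑ u ∈ B.toFinset, A r u * A' u s = d r * d s := by
    intro r hr s hs
    have e := classInner_star_abelian hM hmax h.comm (h.stable hodd hM) (h.symm.stable hodd hM) r s
    set φ : G → ℂ := fun g => if g ∈ P₁ ∨ g ∈ P₂ then 0 else 16 with hφdef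
    have hφinv : ∀ n ∈ Subgroup.normalizer (P : Set G), ∀ w ∈ P, φ (n * w * n⁻¹) = φ w := by
      intro n hn w _
      have h1 : n * w * n⁻¹ ∈ P₁ ↔ w ∈ P₁ := by
        refine ⟨fun hw => ?_, h.stab₁ n hn w⟩
        have := h.stab₁ n⁻¹ ((Subgroup.normalizer (P : Set G)).inv_mem hn) _ hw
        simpa [mul_assoc] using this
      have h2 : n * w * n⁻¹ ∈ P₂ ↔ w ∈ P₂ := by
        refine ⟨fun hw => ?_, h.stab₂ n hn w⟩
        have := h.stab₂ n⁻¹ ((Subgroup.normalizer (P : Set G)).inv_mem hn) _ hw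
        simpa [mul_assoc] using this
      simp only [hφdef, h1, h2]
    have hab1 : a * b ∉ P₁ := fun hh => hb1
      (h.eq_of_mul_eq (a := a) (b := b) (a' := a * b) (b' := 1) ha hh hb P₂.one_mem (by rw [mul_one])).2
    have hab2 : a * b ∉ P₂ := fun hh => ha1
      (h.eq_of_mul_eq (a := a) (b := b) (a' := 1) (b' := a * b) ha P₁.one_mem hb hh (by rw [one_mul])).1
    rw [Finset.sum_congr rfl (g := fun w : P => wt P (pb M P) w *
      (φ (w : G) * secInner 2 r s (bel hM hmax.1.1 w))) fun w _ => by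
        simp only [zeta, hφdef]
        by_cases k1 : (w : G) ∈ P₁ <;> by_cases k2 : (w : G) ∈ P₂ <;>
          simp [k1, k2, show (starRingEnd ℂ) (4 : ℂ) = 4 from map_ofNat _ 4]
        exact Or.inl (by norm_num),
      sum_wt_sec h hodd hM ha ha1 hb hb1 r s φ hφinv,
      show φ 1 = 0 from if_pos (Or.inl P₁.one_mem), show φ a = 0 from if_pos (Or.inl ha),
      show φ b = 0 from if_pos (Or.inr hb),
      show φ (a * b) = 16 from if_neg (not_or.2 ⟨hab1, hab2⟩),
      Char.classInner_eq_sum_irr (Char.IsGeneralizedCharacter.isClassFunction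
        (star_isGen (etaOf_compatible hM hmax (h.stable hodd hM) h.gen) r))] at e
    apply Int.cast_injective (α := ℂ)
    push_cast
    refine Eq.trans ?_ (e.trans (by linear_combination hd r s))
    refine (Finset.sum_congr rfl fun u hu => ?_).trans
      (Finset.sum_subset (Finset.subset_univ _) fun u _ hu => ?_)
    · rw [hA, hA's u (Set.mem_toFinset.1 hu) s hs,
        ← Char.classInner_conj_symm (star hM (etaOf 2 M P (pb M P) (zeta P P₁)) s) (u : G → ℂ),
        hA', map_intCast]
    · rw [hA, hAzero r u (by simpa using hu), Int.cast_zero, zero_mul]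
  -- the configuration
  have hsub : ∀ g : IrrCharacter G → ℤ, ∑ u : ↥B, g u = ∑ u ∈ B.toFinset, g u := fun g =>
    (Finset.sum_subtype B.toFinset (fun x => Set.mem_toFinset) g).symm
  have hdd : ∀ r ∈ B, ∀ s ∈ B, ∑ u ∈ B.toFinset, A r u * (d u * d s) = 4 * (d r * d s) := by
    intro r hr s hs
    calc ∑ u ∈ B.toFinset, A r u * (d u * d s)
        = ∑ u ∈ B.toFinset, ∑ v ∈ B.toFinset, A r u * (A u v * A' v s) := by
          refine Finset.sum_congr rfl fun u hu => ?_
          rw [← hAB u (Set.mem_toFinset.1 hu) s hs, Finset.mul_sum]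
      _ = ∑ v ∈ B.toFinset, (∑ u ∈ B.toFinset, A r u * A u v) * A' v s := by
          rw [Finset.sum_comm]
          exact Finset.sum_congr rfl fun v _ => by
            rw [Finset.sum_mul]; exact Finset.sum_congr rfl fun u _ => by ring
      _ = ∑ v ∈ B.toFinset, 4 * (A r v * A' v s) := Finset.sum_congr rfl fun v hv => by
          rw [hA2 r hr v (Set.mem_toFinset.1 hv)]; ring
      _ = 4 * (d r * d s) := by rw [← Finset.mul_sum, hAB r hr s hs]
  have hAd : ∀ r ∈ B, ∑ u ∈ B.toFinset, A r u * d u = 4 * d r := fun r hr => by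
    have e := hdd r hr _ hτ
    simpa [hd1] using e
  have hA'd : ∀ r ∈ B, ∑ u ∈ B.toFinset, A' r u * d u = 4 * d r := by
    intro r hr
    have e : ∑ u ∈ B.toFinset, A' r u * (∑ v ∈ B.toFinset, A' u v * A v (trivChar G)) = 4 * d r := by
      rw [Finset.sum_congr rfl fun u _ => Finset.mul_sum _ _ _, Finset.sum_comm,
        Finset.sum_congr rfl fun v hv => show ∑ u ∈ B.toFinset, A' r u * (A' u v * A v (trivChar G))
          = 4 * (A (trivChar G) v * A' v r) by
            rw [Finset.sum_congr rfl (g := fun u => A' r u * A' u v * A v (trivChar G)) fun u _ => by ring,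
              ← Finset.sum_mul, hA'2 r hr v (Set.mem_toFinset.1 hv), hAs v (Set.mem_toFinset.1 hv) _ hτ,
              hA's r hr v (Set.mem_toFinset.1 hv)]
            ring,
        ← Finset.mul_sum, hAB _ hτ r hr, hd1, one_mul]
    rw [← e]
    refine Finset.sum_congr rfl fun u hu => ?_
    rw [Finset.sum_congr rfl (g := fun v => A (trivChar G) v * A' v u) fun v hv => by
      rw [hAs v (Set.mem_toFinset.1 hv) _ hτ, hA's u (Set.mem_toFinset.1 hu) v (Set.mem_toFinset.1 hv)]
      ring, hAB _ hτ u (Set.mem_toFinset.1 hu), hd1, one_mul]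
  have hdsq : ∑ u ∈ B.toFinset, d u * d u = 16 := by
    have e := sum_sec hM (h.orderOf_pow (P.mul_mem (h.le₁ ha) (h.le₂ hb)))
    rw [hrk, Nat.cast_one] at e
    have e' : ((∑ u ∈ B.toFinset, d u * d u : ℤ) : ℂ) = 16 := by
      push_cast
      rw [Finset.sum_congr rfl fun u _ => (hd u u).symm, ← Finset.mul_sum, e, mul_one]
    exact_mod_cast e'
  have hdf : ∑ u ∈ B.toFinset, d u * (charDegree (u : G → ℂ) : ℤ) = 0 := by
    rw [Finset.sum_congr rfl (g := fun u => ∑ v ∈ B.toFinset,
      A (trivChar G) v * (A' v u * (charDegree (u : G → ℂ) : ℤ))) fun u hu => by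
        rw [← one_mul (d u), ← hd1, ← hAB _ hτ u (Set.mem_toFinset.1 hu), Finset.sum_mul]
        exact Finset.sum_congr rfl fun v _ => by ring,
      Finset.sum_comm]
    refine Finset.sum_eq_zero fun v hv => ?_
    rw [← Finset.mul_sum, hA'deg v (Set.mem_toFinset.1 hv), mul_zero]
  have hregpos : ∀ r ∈ B, 0 < 16 - 4 * A r r - 4 * A' r r + d r * d r := by
    intro r hr
    have e := hX r hr r hr
    rw [if_pos rfl, sec_one hM hr hr,
      show ∑ g : G with IsPRegular 2 g, (r : G → ℂ) g * conj ((r : G → ℂ) g)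
        = ((∑ g : G with IsPRegular 2 g, Complex.normSq ((r : G → ℂ) g) : ℝ) : ℂ) by
          push_cast; exact Finset.sum_congr rfl fun g _ => Complex.mul_conj _] at e
    have hpos : 0 < ∑ g : G with IsPRegular 2 g, Complex.normSq ((r : G → ℂ) g) :=
      Finset.sum_pos' (fun g _ => Complex.normSq_nonneg _) ⟨1, Finset.mem_filter.2
        ⟨Finset.mem_univ _, by rw [IsPRegular, orderOf_one]; norm_num⟩,
        Complex.normSq_pos.2 (irr_one_ne_zero r)⟩
    have e' : 16 * ((∑ g : G with IsPRegular 2 g, Complex.normSq ((r : G → ℂ) g)) * (Nat.card G : ℝ)⁻¹)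
        = ((16 * 1 - 4 * (A r r + A' r r) + d r * d r : ℤ) : ℝ) := by
      apply Complex.ofReal_injective
      push_cast
      push_cast at e
      exact e
    have hG : (0 : ℝ) < (Nat.card G : ℝ)⁻¹ := inv_pos.2 (Nat.cast_pos.2 Nat.card_pos)
    have : (0 : ℝ) < ((16 * 1 - 4 * (A r r + A' r r) + d r * d r : ℤ) : ℝ) :=
      e' ▸ mul_pos (by norm_num) (mul_pos hpos hG)
    have := Int.cast_pos.1 this
    linarith
  have hregne : ∀ r ∈ B, r ≠ trivChar G → 4 * (A r (trivChar G) + A' r (trivChar G)) - d r ≠ 0 := by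
    intro r hr hne h0
    have e := hX r hr _ hτ
    rw [if_neg hne, hd1, show 16 * (0 : ℤ) - 4 * (A r (trivChar G) + A' r (trivChar G)) + d r * 1 = 0 by
      linarith, Int.cast_zero, sec_one hM hr hτ] at e
    have hne2 := ExtensionPrincipal.sum_regular_ne_zero hM hr
    refine hne2 ((mul_eq_zero.1 ((mul_eq_zero.1 e).resolve_left (by norm_num))).resolve_right
      (inv_ne_zero (Nat.cast_ne_zero.2 Nat.card_pos.ne')) ▸ ?_)
    exact Finset.sum_congr rfl fun g _ => by simp
  let c : Config ↥B :=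
    { t := ⟨trivChar G, hτ⟩
      d := fun u => d u
      f := fun u => (charDegree ((u : IrrCharacter G) : G → ℂ) : ℤ)
      A := fun u v => A u v
      B := fun u v => A' u v
      symA := fun u v => hAs _ u.2 _ v.2
      symB := fun u v => hA's _ u.2 _ v.2
      sqA := fun r s => (hsub fun u => A r u * A u s).trans (hA2 _ r.2 _ s.2)
      sqB := fun r s => (hsub fun u => A' r u * A' u s).trans (hA'2 _ r.2 _ s.2)
      mulAB := fun r s => (hsub fun u => A r u * A' u s).trans (hAB _ r.2 _ s.2)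
      Ad := fun r => (hsub fun u => A r u * d u).trans (hAd _ r.2)
      Bd := fun r => (hsub fun u => A' r u * d u).trans (hA'd _ r.2)
      dd := (hsub fun u => d u * d u).trans hdsq
      traceA := (hsub fun u => A u u).trans hAtr
      traceB := (hsub fun u => A' u u).trans hA'tr
      d_t := hd1
      A_t := hAt
      B_t := hA't
      parA := fun r => hAp _ r.2
      parB := fun r => hA'p _ r.2
      X_pos := fun r => hregpos _ r.2
      X_ne := fun r hr => hregne _ r.2 fun e => hr (Subtype.ext e)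
      Af := fun r => (hsub fun u => A r u * (charDegree (u : G → ℂ) : ℤ)).trans (hAdeg _ r.2)
      Bf := fun r => (hsub fun u => A' r u * (charDegree (u : G → ℂ) : ℤ)).trans (hA'deg _ r.2)
      df := (hsub fun u => d u * (charDegree (u : G → ℂ) : ℤ)).trans hdf
      f_t := by simp [charDegree] }
  have hk : Nat.card B = 16 := by rw [Nat.card_eq_fintype_card]; exact c.card_eq_sixteen
  refine ⟨hk, ?_⟩
  have hl : ∑ r ∈ B.toFinset, sec M 1 r r = (blockRank 2 B : ℂ) := by
    have e := card_mul_blockRank hM (isPBlock_principalBlock (M := M) (G := G))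
    simp only [finsum_mem_eq_toFinset_sum] at e
    rw [Finset.sum_congr rfl fun r hr => sec_one hM (Set.mem_toFinset.1 hr) (Set.mem_toFinset.1 hr),
      ← Finset.sum_mul, Finset.sum_comm]
    rw [Finset.sum_congr rfl (g := fun x => ∑ r ∈ B.toFinset, pRegularPart 2 (r : G → ℂ) x * (r : G → ℂ) x⁻¹)
      fun x hx => Finset.sum_congr rfl fun r _ => by
        rw [pRegularPart_apply, if_pos (Finset.mem_filter.1 hx).2, conj_irr],
      Finset.sum_subset (Finset.filter_subset _ _) fun x _ hx => Finset.sum_eq_zero fun r _ => by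
        rw [pRegularPart_apply, if_neg (fun h' => hx (Finset.mem_filter.2 ⟨Finset.mem_univ _, h'⟩)), zero_mul],
      ← e, mul_comm (Nat.card G : ℂ), mul_assoc, mul_inv_cancel₀ (Nat.cast_ne_zero.2 Nat.card_pos.ne'),
      mul_one]
  have htot : (Nat.card B : ℂ) = (blockRank 2 B : ℂ) + 3 + 3 + 1 := by
    rw [Nat.card_eq_fintype_card, ← Set.toFinset_card,
      show (B.toFinset.card : ℂ) = ∑ r ∈ B.toFinset, (if r = r then (1 : ℂ) else 0) by simp,
      Finset.sum_congr rfl fun r hr => hone r (Set.mem_toFinset.1 hr) r (Set.mem_toFinset.1 hr)]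
    simp only [Finset.sum_add_distrib]
    rw [hl, sum_sec hM (h.orderOf_pow (h.le₁ ha)), sum_sec hM (h.orderOf_pow (h.le₂ hb)),
      sum_sec hM (h.orderOf_pow (P.mul_mem (h.le₁ ha) (h.le₂ hb))), rank_three h hodd hM ha ha1,
      rank_three h.symm hodd hM hb hb1, hrk]
    norm_num
  rw [hk] at htot
  have : (16 : ℕ) = blockRank 2 B + 3 + 3 + 1 := by exact_mod_cast htot
  omega

end CfsgLib.BlockSixteen
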