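import Mathlib.GroupTheory.Sylow
import Mathlib.GroupTheory.PGroup
import Mathlib.GroupTheory.Perm.Cycle.Type
import Mathlib.GroupTheory.Subgroup.Centralizer

/-!
# An elementary group of order 16 with an automizer of order 9
-/

set_option autoImplicit false
set_option linter.style.haveILetI false

namespace CfsgLib.BlockSixteen

open scoped Classical

variable {G : Type*} [Group G]

/-- `P` is the product of two four-groups, each moved transitively by elements fixing the other. -/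
structure Shape (P P₁ P₂ : Subgroup G) : Prop where
  elem : ∀ x ∈ P, x * x = 1
  le₁ : P₁ ≤ P
  le₂ : P₂ ≤ P
  card : Nat.card P = 16
  card₁ : Nat.card P₁ = 4
  card₂ : Nat.card P₂ = 4
  inf : P₁ ⊓ P₂ = ⊥
  stab₁ : ∀ n ∈ Subgroup.normalizer (P : Set G), ∀ x ∈ P₁, n * x * n⁻¹ ∈ P₁
  stab₂ : ∀ n ∈ Subgroup.normalizer (P : Set G), ∀ x ∈ P₂, n * x * n⁻¹ ∈ P₂
  fix₁ : ∀ n ∈ Subgroup.normalizer (P : Set G), ∀ x ∈ P₁, x ≠ 1 → n * x * n⁻¹ = x →
    ∀ y ∈ P₁, n * y * n⁻¹ = y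
  fix₂ : ∀ n ∈ Subgroup.normalizer (P : Set G), ∀ x ∈ P₂, x ≠ 1 → n * x * n⁻¹ = x →
    ∀ y ∈ P₂, n * y * n⁻¹ = y
  trans₁ : ∀ x ∈ P₁, x ≠ 1 → ∀ y ∈ P₁, y ≠ 1 →
    ∃ n ∈ Subgroup.normalizer (P : Set G), (∀ z ∈ P₂, n * z * n⁻¹ = z) ∧ n * x * n⁻¹ = y
  trans₂ : ∀ x ∈ P₂, x ≠ 1 → ∀ y ∈ P₂, y ≠ 1 →
    ∃ n ∈ Subgroup.normalizer (P : Set G), (∀ z ∈ P₁, n * z * n⁻¹ = z) ∧ n * x * n⁻¹ = y

namespace Shape

variable {P P₁ P₂ : Subgroup G}

theorem symm (h : Shape P P₁ P₂) : Shape P P₂ P₁ :=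
  ⟨h.elem, h.le₂, h.le₁, h.card, h.card₂, h.card₁, by rw [inf_comm, h.inf], h.stab₂, h.stab₁,
    h.fix₂, h.fix₁, h.trans₂, h.trans₁⟩

theorem comm (h : Shape P P₁ P₂) : ∀ x ∈ P, ∀ y ∈ P, x * y = y * x := fun x hx y hy => by
  have e : ∀ z ∈ P, z⁻¹ = z := fun z hz => inv_eq_of_mul_eq_one_right (h.elem z hz)
  rw [← e (x * y) (P.mul_mem hx hy), mul_inv_rev, e x hx, e y hy]

theorem eq_of_mul_eq (h : Shape P P₁ P₂) {a a' b b' : G} (ha : a ∈ P₁) (ha' : a' ∈ P₁)
    (hb : b ∈ P₂) (hb' : b' ∈ P₂) (e : a * b = a' * b') : a = a' ∧ b = b' := by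
  have h1 : a'⁻¹ * a = b' * b⁻¹ := by
    rw [eq_mul_inv_iff_mul_eq, mul_assoc, e, inv_mul_cancel_left]
  have h2 : a'⁻¹ * a ∈ P₁ ⊓ P₂ :=
    ⟨P₁.mul_mem (P₁.inv_mem ha') ha, h1 ▸ P₂.mul_mem hb' (P₂.inv_mem hb)⟩
  rw [h.inf, Subgroup.mem_bot] at h2
  exact ⟨(inv_mul_eq_one.1 h2).symm, (mul_inv_eq_one.1 (h1 ▸ h2)).symm⟩

/-- The decomposition of `P`. -/
noncomputable def prodEquiv [Finite G] (h : Shape P P₁ P₂) : P₁ × P₂ ≃* P := by
  refine MulEquiv.ofBijective
    (MonoidHom.mk' (fun ab : P₁ × P₂ => (⟨(ab.1 : G) * ab.2,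
      P.mul_mem (h.le₁ ab.1.2) (h.le₂ ab.2.2)⟩ : P)) fun u v => Subtype.ext ?_) ⟨?_, ?_⟩
  · show (u.1 * v.1 : G) * (u.2 * v.2) = u.1 * u.2 * (v.1 * v.2)
    rw [mul_assoc, mul_assoc, ← mul_assoc (v.1 : G),
      h.comm _ (h.le₁ v.1.2) _ (h.le₂ u.2.2), mul_assoc]
  all_goals
    have hinj : Function.Injective (fun ab : P₁ × P₂ => (⟨(ab.1 : G) * ab.2,
        P.mul_mem (h.le₁ ab.1.2) (h.le₂ ab.2.2)⟩ : P)) := fun u v e => by
      obtain ⟨e1, e2⟩ := h.eq_of_mul_eq u.1.2 v.1.2 u.2.2 v.2.2 (congrArg Subtype.val e)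
      exact Prod.ext (Subtype.ext e1) (Subtype.ext e2)
  · exact hinj
  · exact (hinj.bijective_of_nat_card_le (by rw [Nat.card_prod, h.card₁, h.card₂, h.card])).2

theorem exists_mul [Finite G] (h : Shape P P₁ P₂) {w : G} (hw : w ∈ P) :
    ∃ a ∈ P₁, ∃ b ∈ P₂, w = a * b := by
  obtain ⟨⟨a, b⟩, e⟩ := h.prodEquiv.surjective ⟨w, hw⟩
  exact ⟨a, a.2, b, b.2, (congrArg Subtype.val e).symm⟩

theorem exists_ne_one₁ [Finite G] (h : Shape P P₁ P₂) : ∃ a ∈ P₁, a ≠ 1 := by
  have : Nontrivial P₁ := Finite.one_lt_card_iff_nontrivial.1 (by rw [h.card₁]; norm_num)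
  obtain ⟨⟨a, ha⟩, hne⟩ := exists_ne (1 : P₁)
  exact ⟨a, ha, fun e => hne (Subtype.ext e)⟩

/-- An element of the normalizer fixing a mixed element centralizes `P`. -/
theorem mem_centralizer [Finite G] (h : Shape P P₁ P₂) {n : G}
    (hn : n ∈ Subgroup.normalizer (P : Set G)) {a b : G} (ha : a ∈ P₁) (ha1 : a ≠ 1) (hb : b ∈ P₂)
    (hb1 : b ≠ 1) (e : n * (a * b) * n⁻¹ = a * b) : n ∈ Subgroup.centralizer (P : Set G) := by
  have e' : (n * a * n⁻¹) * (n * b * n⁻¹) = a * b := by rw [← e]; simp [mul_assoc]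
  obtain ⟨e1, e2⟩ := h.eq_of_mul_eq (h.stab₁ n hn a ha) ha (h.stab₂ n hn b hb) hb e'
  refine Subgroup.mem_centralizer_iff.2 fun w hw => ?_
  obtain ⟨c, hc, d, hd, rfl⟩ := h.exists_mul hw
  have h1 : n * (c * d) * n⁻¹ = c * d := by
    conv_rhs => rw [← h.fix₁ n hn a ha ha1 e1 c hc, ← h.fix₂ n hn b hb hb1 e2 d hd]
    simp [mul_assoc]
  exact (mul_inv_eq_iff_eq_mul.1 h1).symm

end Shape

/-! ### Automorphisms -/

section Aut

variable {P : Type*} [Group P]

theorem comm_of_sq (hsq : ∀ x : P, x * x = 1) (u v : P) : u * v = v * u := by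
  have e : ∀ z : P, z⁻¹ = z := fun z => inv_eq_of_mul_eq_one_right (hsq z)
  rw [← e (u * v), mul_inv_rev, e, e]

theorem aut_fix_four {β : MulAut P} {X : Subgroup P} (hX : Nat.card X = 4)
    (hsq : ∀ x : P, x * x = 1) (hβX : ∀ x ∈ X, β x ∈ X) (hord : β ^ 9 = 1)
    {x : P} (hx : x ∈ X) (hx1 : x ≠ 1) (hfix : β x = x) : ∀ y ∈ X, β y = y := by
  haveI : Finite X := Nat.finite_of_card_ne_zero (by rw [hX]; norm_num)
  intro y hy
  by_cases hy1 : y = 1
  · rw [hy1, map_one]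
  by_cases hyx : y = x
  · rw [hyx, hfix]
  by_contra hne
  -- the image is the fourth element
  have hfour : β y = x * y := by
    by_contra hxy
    have hn1 : β y ≠ 1 := fun e => hy1 (β.injective (e.trans (map_one β).symm))
    have hnx : β y ≠ x := fun e => hyx (β.injective (e.trans hfix.symm))
    have hxy1 : x * y ≠ 1 := fun e =>
      hyx ((eq_inv_of_mul_eq_one_right e).trans (inv_eq_of_mul_eq_one_right (hsq x)))
    have hxyx : x * y ≠ x := fun e => hy1 (mul_eq_left.1 e)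
    have hxyy : x * y ≠ y := fun e => hx1 (mul_eq_right.1 e)
    let f : Fin 5 → X := ![1, ⟨x, hx⟩, ⟨y, hy⟩, ⟨x * y, X.mul_mem hx hy⟩, ⟨β y, hβX y hy⟩]
    have hf : Function.Injective f := by
      intro i j e
      fin_cases i <;> fin_cases j <;> simp [f, Subtype.ext_iff] at e ⊢ <;>
        first
          | exact hx1 e | exact hx1 e.symm | exact hy1 e | exact hy1 e.symm
          | exact hxy1 e | exact hxy1 e.symm | exact hyx e | exact hyx e.symm
          | exact hn1 e | exact hn1 e.symm | exact hnx e | exact hnx e.symm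
          | exact hne e | exact hne e.symm | exact hxy e | exact hxy e.symm
          | exact hxyx e | exact hxyx e.symm | exact hxyy e | exact hxyy e.symm
          | exact absurd e.1 hxy1
    have := Nat.card_le_card_of_injective f hf
    rw [hX, Nat.card_eq_fintype_card, Fintype.card_fin] at this
    omega
  have h2 : β (β y) = y := by rw [hfour, map_mul, hfix, hfour, ← mul_assoc, hsq, one_mul]
  have h9 : (β ^ 9) y = β y := by
    simp only [pow_succ, pow_zero, one_mul, MulAut.mul_apply, h2]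
  rw [hord] at h9
  exact hne h9.symm

variable [Finite P]

/-- The two four-groups of an automizer of order nine. -/
theorem exists_pair (hsq : ∀ x : P, x * x = 1) (hP : Nat.card P = 16) (A : Subgroup (MulAut P))
    (hA : Nat.card A = 9) :
    ∃ X Y : Subgroup P, Nat.card X = 4 ∧ Nat.card Y = 4 ∧ X ⊓ Y = ⊥ ∧
      (∀ β ∈ A, ∀ x ∈ X, β x ∈ X) ∧ ∀ β ∈ A, ∀ y ∈ Y, β y ∈ Y := by
  have hcomm : ∀ a ∈ A, ∀ b ∈ A, a * b = b * a := fun a ha b hb => by
    haveI : Fact (Nat.Prime 3) := ⟨Nat.prime_three⟩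
    haveI := IsPGroup.isMulCommutative_of_card_eq_prime_sq (p := 3) (G := A) (by rw [hA]; rfl)
    exact congrArg Subtype.val (IsMulCommutative.is_comm.comm (⟨a, ha⟩ : A) ⟨b, hb⟩)
  have hpow : ∀ a ∈ A, a ^ 9 = 1 := fun a ha => by
    have h := congrArg Subtype.val (pow_card_eq_one' (x := (⟨a, ha⟩ : A)))
    rw [hA] at h
    simpa using h
  -- some element other than `1` fixes a point
  obtain ⟨a, haA, ha1, x, hx1, hax⟩ : ∃ a ∈ A, a ≠ 1 ∧ ∃ x : P, x ≠ 1 ∧ a x = x := by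
    by_contra hno
    push Not at hno
    have hinj : ∀ x : P, x ≠ 1 → Function.Injective fun b : A => (b : MulAut P) x := by
      intro x hx b c e
      by_contra hbc
      refine hno ((c : MulAut P)⁻¹ * b) (A.mul_mem (A.inv_mem c.2) b.2)
        (fun h => hbc (Subtype.ext (inv_mul_eq_one.1 h).symm)) x hx ?_
      rw [MulAut.mul_apply, show (b : MulAut P) x = (c : MulAut P) x from e, MulAut.inv_apply_self]
    obtain ⟨x, hx⟩ : ∃ x : P, x ≠ 1 := by
      have : Nontrivial P := Finite.one_lt_card_iff_nontrivial.1 (by rw [hP]; norm_num)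
      exact exists_ne 1
    haveI := Fintype.ofFinite P
    haveI := Fintype.ofFinite A
    obtain ⟨y, hy, hy1⟩ : ∃ y : P, y ∉ Finset.univ.image (fun b : A => (b : MulAut P) x) ∧ y ≠ 1 := by
      by_contra h
      push Not at h
      have : (Finset.univ : Finset P) ⊆ insert 1 (Finset.univ.image fun b : A => (b : MulAut P) x) := by
        intro y _
        rw [Finset.mem_insert]
        by_contra hc
        push Not at hc
        exact hc.1 (h y hc.2)
      have := (Finset.card_le_card this).trans (Finset.card_insert_le _ _)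
      rw [Finset.card_univ, ← Nat.card_eq_fintype_card, hP,
        Finset.card_image_of_injective _ (hinj x hx), Finset.card_univ, ← Nat.card_eq_fintype_card,
        hA] at this
      omega
    let g : A ⊕ A → {z : P // z ≠ 1} := Sum.elim
      (fun b => ⟨(b : MulAut P) x, fun e => hx ((b : MulAut P).injective (e.trans (map_one _).symm))⟩)
      (fun b => ⟨(b : MulAut P) y, fun e => hy1 ((b : MulAut P).injective (e.trans (map_one _).symm))⟩)
    have hg : Function.Injective g := by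
      have hcross : ∀ b c : A, (b : MulAut P) x ≠ (c : MulAut P) y := fun b c e => hy
        (Finset.mem_image.2 ⟨c⁻¹ * b, Finset.mem_univ _, by
          rw [Subgroup.coe_mul, Subgroup.coe_inv, MulAut.mul_apply, e, MulAut.inv_apply_self]⟩)
      rintro (b | b) (c | c) e <;> simp only [g, Sum.elim_inl, Sum.elim_inr, Subtype.mk.injEq] at e
      · rw [hinj x hx e]
      · exact absurd e (hcross b c)
      · exact absurd e.symm (hcross c b)
      · rw [hinj y hy1 e]
    have h18 := Nat.card_le_card_of_injective g hg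
    rw [Nat.card_sum, hA, Nat.card_eq_fintype_card, Fintype.card_subtype_compl,
      Fintype.card_subtype_eq, ← Nat.card_eq_fintype_card, hP] at h18
    omega
  -- an element of order three with the same property
  obtain ⟨α, hαA, hα1, hαx, hα3⟩ : ∃ α ∈ A, α ≠ 1 ∧ α x = x ∧ α ^ 3 = 1 := by
    by_cases h3 : a ^ 3 = 1
    · exact ⟨a, haA, ha1, hax, h3⟩
    · refine ⟨a ^ 3, A.pow_mem haA 3, h3, ?_, by rw [← pow_mul]; exact hpow a haA⟩
      simp only [pow_succ, pow_zero, one_mul, MulAut.mul_apply, hax]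
  have hc : ∀ u v : P, u * v = v * u := comm_of_sq hsq
  let D : P →* P := MonoidHom.mk' (fun v => v * α v) fun u v => by
    rw [map_mul, mul_assoc, mul_assoc, ← mul_assoc v, hc v (α u), mul_assoc]
  have hker : ∀ v, v ∈ D.ker ↔ α v = v := fun v => by
    show v * α v = 1 ↔ _
    rw [mul_eq_one_iff_inv_eq, inv_eq_of_mul_eq_one_right (hsq v)]
    exact eq_comm
  have hDα : ∀ v, α (D v) = D (α v) := fun v => by
    show α (v * α v) = α v * α (α v)
    rw [map_mul]
  have hinter : D.ker ⊓ D.range = ⊥ := by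
    refine (Subgroup.eq_bot_iff_forall _).2 fun w hw => ?_
    obtain ⟨v, rfl⟩ := hw.2
    have hw1 : α (D v) = D v := (hker _).1 hw.1
    have h3 : α (α (α v)) = v := by
      have := congrArg (fun β : MulAut P => β v) hα3
      simpa only [pow_succ, pow_zero, one_mul, MulAut.mul_apply, MulAut.one_apply] using this
    have e : D v * α (D v) * α (α (D v)) = 1 := by
      show v * α v * α (v * α v) * α (α (v * α v)) = 1
      rw [map_mul, map_mul, h3, ← mul_assoc (v * α v), mul_assoc v (α v), hsq, mul_one,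
        ← mul_assoc, mul_assoc v (α (α v)), hsq, mul_one, hsq]
    rwa [hw1, hw1, hsq, one_mul] at e
  have hmul : Nat.card D.ker * Nat.card D.range = 16 := by
    rw [← hP, ← Subgroup.card_mul_index D.ker, Subgroup.index_ker]
  have hrange : Nat.card D.range = 4 := by
    haveI := Fintype.ofFinite D.range
    haveI : DecidableEq D.range := Classical.decEq _
    have hα_range : ∀ w ∈ D.range, α w ∈ D.range := by
      rintro _ ⟨v, rfl⟩
      exact ⟨α v, (hDα v).symm⟩
    let f : Function.End D.range := fun w => ⟨α w, hα_range w w.2⟩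
    have hf : f ^ 3 ^ 1 = 1 := by
      funext w
      apply Subtype.ext
      show α (α (α (w : P))) = (w : P)
      have := congrArg (fun β : MulAut P => β (w : P)) hα3
      simpa only [pow_succ, pow_zero, one_mul, MulAut.mul_apply, MulAut.one_apply] using this
    haveI : Fact (Nat.Prime 3) := ⟨Nat.prime_three⟩
    have hmod := Equiv.Perm.card_fixedPoints_modEq (p := 3) (n := 1) hf
    have hfix : Fintype.card (Function.fixedPoints f) = 1 := by
      refine Fintype.card_eq_one_iff.2 ⟨⟨1, Subtype.ext (map_one α)⟩, fun w => ?_⟩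
      refine Subtype.ext (Subtype.ext ?_)
      have h : ((w : D.range) : P) ∈ D.ker ⊓ D.range :=
        ⟨(hker _).2 (congrArg Subtype.val w.2), (w : D.range).2⟩
      rw [hinter, Subgroup.mem_bot] at h
      exact h
    rw [hfix, ← Nat.card_eq_fintype_card] at hmod
    have hdvd : Nat.card D.range ∣ 2 ^ 4 := by
      rw [show (2 : ℕ) ^ 4 = Nat.card P by rw [hP]; rfl]
      exact Subgroup.card_subgroup_dvd_card _
    have hker2 : 1 < Nat.card D.ker := by
      refine Finite.one_lt_card_iff_nontrivial.2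
        ⟨⟨x, (hker x).2 hαx⟩, 1, fun e => hx1 (congrArg Subtype.val e)⟩
    have hr1 : Nat.card D.range ≠ 1 := fun e => hα1 (MulEquiv.ext fun v => by
      rw [Subgroup.card_eq_one] at e
      have : D v ∈ D.range := ⟨v, rfl⟩
      rw [e, Subgroup.mem_bot] at this
      exact (hker v).1 this)
    obtain ⟨i, hi, hi'⟩ := (Nat.dvd_prime_pow Nat.prime_two).1 hdvd
    rw [hi'] at hmod hmul hr1
    unfold Nat.ModEq at hmod
    interval_cases i <;> first | omega | (norm_num at hmod; done)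
  refine ⟨D.ker, D.range, ?_, hrange, hinter, fun β hβ v hv => ?_, ?_⟩
  · rw [hrange] at hmul; omega
  · rw [hker] at hv ⊢
    rw [show α (β v) = (α * β) v from rfl, hcomm α hαA β hβ, MulAut.mul_apply, hv]
  · rintro β hβ _ ⟨v, rfl⟩
    refine ⟨β v, ?_⟩
    show β v * α (β v) = β (v * α v)
    rw [map_mul, show α (β v) = (α * β) v from rfl, hcomm α hαA β hβ, MulAut.mul_apply]

/-- An element fixing one four-group moves the other transitively. -/
theorem exists_trans (hsq : ∀ x : P, x * x = 1) {A : Subgroup (MulAut P)} (hA : Nat.card A = 9)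
    {X Y : Subgroup P} (hX : Nat.card X = 4) (hY : Nat.card Y = 4)
    (hXY : ∀ v : P, ∃ a ∈ X, ∃ b ∈ Y, v = a * b) (hAX : ∀ β ∈ A, ∀ x ∈ X, β x ∈ X)
    (hAY : ∀ β ∈ A, ∀ y ∈ Y, β y ∈ Y) {x x' : P} (hx : x ∈ X) (hx1 : x ≠ 1) (hx' : x' ∈ X)
    (hx'1 : x' ≠ 1) : ∃ β ∈ A, (∀ z ∈ Y, β z = z) ∧ β x = x' := by
  have hpow : ∀ a ∈ A, a ^ 9 = 1 := fun a ha => by
    have h := congrArg Subtype.val (pow_card_eq_one' (x := (⟨a, ha⟩ : A)))
    rw [hA] at h
    simpa using h
  obtain ⟨y, hy, hy1⟩ : ∃ y ∈ Y, y ≠ 1 := by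
    have : Nontrivial Y := Finite.one_lt_card_iff_nontrivial.1 (by rw [hY]; norm_num)
    obtain ⟨⟨y, hy⟩, hne⟩ := exists_ne (1 : Y)
    exact ⟨y, hy, fun e => hne (Subtype.ext e)⟩
  -- some element other than `1` fixes `Y`
  obtain ⟨β, hβ, hβ1, hβY⟩ : ∃ β ∈ A, β ≠ 1 ∧ ∀ z ∈ Y, β z = z := by
    by_contra hno
    push Not at hno
    let g : A → {z : Y // z ≠ 1} := fun b => ⟨⟨(b : MulAut P) y, hAY b b.2 y hy⟩, fun e =>
      hy1 ((b : MulAut P).injective ((congrArg Subtype.val e).trans (map_one _).symm))⟩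
    have hg : Function.Injective g := fun b c e => by
      by_contra hbc
      have hmem : (c : MulAut P)⁻¹ * b ∈ A := A.mul_mem (A.inv_mem c.2) b.2
      obtain ⟨z, hz, hne⟩ := hno _ hmem fun h => hbc (Subtype.ext (inv_mul_eq_one.1 h).symm)
      refine hne (aut_fix_four hY hsq (hAY _ hmem) (hpow _ hmem) hy hy1 ?_ z hz)
      have e' : (b : MulAut P) y = (c : MulAut P) y :=
        congrArg (fun w : {z : Y // z ≠ 1} => ((w : Y) : P)) e
      rw [MulAut.mul_apply, e', MulAut.inv_apply_self]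
    haveI := Fintype.ofFinite Y
    have := Nat.card_le_card_of_injective g hg
    rw [hA, Nat.card_eq_fintype_card, Fintype.card_subtype_compl, Fintype.card_subtype_eq,
      ← Nat.card_eq_fintype_card, hY] at this
    omega
  have hmove : ∀ w ∈ X, w ≠ 1 → β w ≠ w := fun w hw hw1 e => hβ1 (MulEquiv.ext fun v => by
    obtain ⟨a, ha, b, hb, rfl⟩ := hXY v
    rw [map_mul, aut_fix_four hX hsq (hAX β hβ) (hpow β hβ) hw hw1 e a ha, hβY b hb]
    rfl)
  by_contra hno
  push Not at hno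
  have h0 : x ≠ x' := fun e => hno 1 A.one_mem (fun z _ => rfl) e
  have h1 : β x ≠ x' := hno β hβ hβY
  have h2 : β (β x) ≠ x' := by
    rw [← MulAut.mul_apply]
    exact hno (β * β) (A.mul_mem hβ hβ) fun z hz => by rw [MulAut.mul_apply, hβY z hz, hβY z hz]
  have hb1 : β x ≠ 1 := fun e => hx1 (β.injective (e.trans (map_one β).symm))
  have hb2 : β (β x) ≠ 1 := fun e => hb1 (β.injective (e.trans (map_one β).symm))
  have h3 : β (β x) ≠ x := fun e => hmove x hx hx1 (by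
    have h9 : (β ^ 9) x = β x := by
      simp only [pow_succ, pow_zero, one_mul, MulAut.mul_apply, e]
    rw [hpow β hβ] at h9
    exact h9.symm)
  let f : Fin 5 → X := ![1, ⟨x, hx⟩, ⟨x', hx'⟩, ⟨β x, hAX β hβ x hx⟩,
    ⟨β (β x), hAX β hβ _ (hAX β hβ x hx)⟩]
  have h4 := hmove x hx hx1
  have h5 : β (β x) ≠ β x := fun e => h4 (β.injective e)
  have hf : Function.Injective f := by
    intro i j e
    fin_cases i <;> fin_cases j <;> simp [f, Subtype.ext_iff] at e ⊢ <;>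
      first
        | exact hx1 e | exact hx1 e.symm | exact hx'1 e | exact hx'1 e.symm
        | exact hb1 e | exact hb1 e.symm | exact hb2 e | exact hb2 e.symm
        | exact h0 e | exact h0 e.symm | exact h1 e | exact h1 e.symm
        | exact h2 e | exact h2 e.symm | exact h3 e | exact h3 e.symm
        | exact h4 e | exact h4 e.symm | exact h5 e | exact h5 e.symm
  haveI : Finite X := inferInstance
  have := Nat.card_le_card_of_injective f hf
  rw [hX, Nat.card_eq_fintype_card, Fintype.card_fin] at this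
  omega

end Aut

/-- The shape of an elementary subgroup of order 16 whose automizer has order 9. -/
theorem exists_shape [Finite G] {P : Subgroup G} (helem : ∀ x ∈ P, x * x = 1)
    (hP : Nat.card P = 16)
    (he : (Subgroup.centralizer (P : Set G)).relIndex (Subgroup.normalizer (P : Set G)) = 9) :
    ∃ P₁ P₂, Shape P P₁ P₂ := by
  set φ := P.normalizerMonoidHom with hφ
  have hA : Nat.card φ.range = 9 := by
    rw [← Subgroup.index_ker, hφ, Subgroup.normalizerMonoidHom_ker]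
    exact he
  have hsq : ∀ x : P, x * x = 1 := fun x => Subtype.ext (helem x x.2)
  obtain ⟨X, Y, hX, hY, hXY, hAX, hAY⟩ := exists_pair hsq hP φ.range hA
  have hgen : ∀ {X Y : Subgroup P}, Nat.card X = 4 → Nat.card Y = 4 → X ⊓ Y = ⊥ →
      ∀ v : P, ∃ a ∈ X, ∃ b ∈ Y, v = a * b := by
    intro X Y hX hY hXY v
    have hinj : Function.Injective (fun ab : X × Y => (ab.1 : P) * ab.2) := fun a b e => by
      have h1 : (b.1 : P)⁻¹ * a.1 = b.2 * (a.2 : P)⁻¹ := by
        rw [eq_mul_inv_iff_mul_eq, mul_assoc, show (a.1 : P) * a.2 = b.1 * b.2 from e,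
          inv_mul_cancel_left]
      have h2 : (b.1 : P)⁻¹ * a.1 ∈ X ⊓ Y :=
        ⟨X.mul_mem (X.inv_mem b.1.2) a.1.2, h1 ▸ Y.mul_mem b.2.2 (Y.inv_mem a.2.2)⟩
      rw [hXY, Subgroup.mem_bot] at h2
      exact Prod.ext (Subtype.ext (inv_mul_eq_one.1 h2).symm)
        (Subtype.ext (mul_inv_eq_one.1 (h1 ▸ h2)).symm)
    obtain ⟨ab, hab⟩ := (hinj.bijective_of_nat_card_le (by rw [Nat.card_prod, hX, hY, hP])).2 v
    exact ⟨_, ab.1.2, _, ab.2.2, hab.symm⟩
  have hact : ∀ (n : G) (hn : n ∈ Subgroup.normalizer (P : Set G)) (x : P),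
      ((φ ⟨n, hn⟩ x : P) : G) = n * (x : G) * n⁻¹ := fun n hn x => rfl
  have hpow : ∀ n (hn : n ∈ Subgroup.normalizer (P : Set G)), (φ ⟨n, hn⟩) ^ 9 = 1 := fun n hn => by
    have h := congrArg Subtype.val (pow_card_eq_one' (x := (⟨_, ⟨n, hn⟩, rfl⟩ : φ.range)))
    rw [hA] at h
    simpa using h
  -- transport of one side
  have hside : ∀ {X Y : Subgroup P}, Nat.card X = 4 → Nat.card Y = 4 → X ⊓ Y = ⊥ →
      (∀ β ∈ φ.range, ∀ x ∈ X, β x ∈ X) → (∀ β ∈ φ.range, ∀ y ∈ Y, β y ∈ Y) →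
      Nat.card (X.map P.subtype) = 4 ∧
      (∀ n ∈ Subgroup.normalizer (P : Set G), ∀ x ∈ X.map P.subtype,
        n * x * n⁻¹ ∈ X.map P.subtype) ∧
      (∀ n ∈ Subgroup.normalizer (P : Set G), ∀ x ∈ X.map P.subtype, x ≠ 1 → n * x * n⁻¹ = x →
        ∀ y ∈ X.map P.subtype, n * y * n⁻¹ = y) ∧
      (∀ x ∈ X.map P.subtype, x ≠ 1 → ∀ y ∈ X.map P.subtype, y ≠ 1 →
        ∃ n ∈ Subgroup.normalizer (P : Set G), (∀ z ∈ Y.map P.subtype, n * z * n⁻¹ = z) ∧
          n * x * n⁻¹ = y) := by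
    intro X Y hX hY hXY hAX hAY
    refine ⟨?_, ?_, ?_, ?_⟩
    · rw [← hX]
      exact (Nat.card_congr (X.equivMapOfInjective _ P.subtype_injective).toEquiv).symm
    · rintro n hn _ ⟨x, hx, rfl⟩
      exact ⟨φ ⟨n, hn⟩ x, hAX _ ⟨_, rfl⟩ x hx, hact n hn x⟩
    · rintro n hn _ ⟨x, hx, rfl⟩ hx1 hfix _ ⟨y, hy, rfl⟩
      exact congrArg Subtype.val (aut_fix_four hX hsq (hAX _ ⟨_, rfl⟩) (hpow n hn) hx
        (fun e => hx1 (by rw [e, map_one])) (Subtype.ext hfix) y hy)
    · rintro _ ⟨x, hx, rfl⟩ hx1 _ ⟨y, hy, rfl⟩ hy1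
      obtain ⟨β, ⟨⟨n, hn⟩, rfl⟩, hfix, hmove⟩ := exists_trans hsq hA hX hY (hgen hX hY hXY) hAX hAY
        hx (fun e => hx1 (by rw [e, map_one])) hy (fun e => hy1 (by rw [e, map_one]))
      refine ⟨n, hn, ?_, congrArg Subtype.val hmove⟩
      rintro _ ⟨z, hz, rfl⟩
      exact congrArg Subtype.val (hfix z hz)
  obtain ⟨c₁, s₁, f₁, t₁⟩ := hside hX hY hXY hAX hAY
  obtain ⟨c₂, s₂, f₂, t₂⟩ := hside hY hX (by rw [inf_comm, hXY]) hAY hAX
  refine ⟨X.map P.subtype, Y.map P.subtype, helem, Subgroup.map_subtype_le X,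
    Subgroup.map_subtype_le Y, hP, c₁, c₂, ?_, s₁, s₂, f₁, f₂, t₁, t₂⟩
  rw [← Subgroup.map_inf _ _ _ P.subtype_injective, hXY, Subgroup.map_bot]

end CfsgLib.BlockSixteen
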